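import Groth.Agent.EtBC.K1.Four
import Groth.Agent.SGA4h.K557.BcQ
import Groth.Agent.EtpbcB.NKillEt
import Groth.Agent.EtpbcB.NKillH

/-!
# Base change maps in degree `q + 1` if they are isomorphisms in degree `q`

For a commutative square `w` and sheaves killed by `n`: if `bq w q G` is an isomorphism for all `G` killed by `n`
then `bq w (q + 1) F` is a monomorphism and for `F ⟶ G` mono the induced map of cokernels is a monomorphism.

`exists_acyc`: every sheaf killed by `n` embeds in one killed by `n` which is acyclic for all direct images.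
-/

set_option autoImplicit false
universe u
open CategoryTheory CategoryTheory.Limits AlgebraicGeometry Opposite

namespace Groth.Agent.EtBC.K1.BcMono

open K557.BcQ K557.BcAbs Groth.Agent.Localalg.DeltaFun Groth.Agent.EtpbcB.NKill Groth.Agent.EtpbcB.NKillEt
open scoped Groth.Agent.Sga4B.EtAbInst

theorem exists_acyc {T : Scheme.{u}} {n : ℕ} {F : EtCoh.Ab T} (hF : EtCoh.KilledBy n F) :
    ∃ (I : EtCoh.Ab T) (ι : F ⟶ I), Mono ι ∧ EtCoh.KilledBy n I ∧
      (∀ {Y : Scheme.{u}} (f : T ⟶ Y) (q : ℕ), IsZero ((EtCoh.Rpush f (q + 1)).obj I)) ∧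
      ∀ q : ℕ, Subsingleton (EtCoh.H T I (q + 1)) := by
  rcases Nat.eq_zero_or_pos n with rfl | hn
  · refine ⟨Injective.under F, Injective.ι F, inferInstance, ?_, ?_, ?_⟩
    · intro U s
      exact zero_nsmul s
    · intro Y f q
      exact Functor.isZero_rightDerived_obj_injective_succ _ _ _
    · intro q
      infer_instance
  · obtain ⟨J, hJ, ι, hι⟩ := exists_mono_tor ((killedBy_iff n F).1 hF)
    refine ⟨tor n J, ι, hι, (killedBy_iff n _).2 (killed_tor n J), ?_, ?_⟩
    · intro Y f q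
      exact isZero_Rpush_of_nInj f hn ((killedBy_iff n _).2 (killed_tor n J)) (nInj_tor n J) (q + 1)
        (Nat.succ_pos q)
    · intro q
      exact Groth.Agent.EtpbcB.NKillH.H_tor J hn (q + 1) (Nat.succ_pos q)

variable {X S X' S' : Scheme.{u}} {f : X ⟶ S} {g : S' ⟶ S} {f' : X' ⟶ S'} {g' : X' ⟶ X}
  (w : g' ≫ f = f' ≫ g)

/-- The base change map as a morphism of delta functors. -/
noncomputable abbrev bqHom : DeltaHom ((chainD (EtCoh.push f)).postcomp (EtCoh.pull g))
    ((chainD (EtCoh.push f')).precomp (EtCoh.pull g')) :=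
  bcHom (sqIso w) (EtCoh.pullPushAdj g') (EtCoh.pullPushAdj g)

variable {n q : ℕ} (H : ∀ G : EtCoh.Ab X, EtCoh.KilledBy n G → IsIso (bq w q G))

include H

theorem mono_bq {F : EtCoh.Ab X} (hF : EtCoh.KilledBy n F) : Mono (bq w (q + 1) F) := by
  obtain ⟨I, ι, hι, hI, hI0, -⟩ := exists_acyc hF
  have hS := shortExact_cokernel ι
  have hQ : EtCoh.KilledBy n (cokernel ι) :=
    (killedBy_iff n _).2 (killed_of_epi (cokernel.π ι) ((killedBy_iff n _).1 hI))
  have h2 : IsIso (bq w q I) := H I hI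
  have h3 : IsIso (bq w q (cokernel ι)) := H _ hQ
  refine Four.mono_succ₁ (bqHom w) hS q ?_ ?_ ?_
  · exact inferInstanceAs (Epi (bq w q I))
  · exact inferInstanceAs (Mono (bq w q (cokernel ι)))
  · have hz : IsZero ((EtCoh.pull g).obj ((EtCoh.Rpush f (q + 1)).obj I)) :=
      (EtCoh.pull g).map_isZero (hI0 f q)
    refine ⟨fun {Z} a b _ => ?_⟩
    exact hz.eq_of_tgt _ _

theorem mono_coker_bq {F G : EtCoh.Ab X} (ι : F ⟶ G) [Mono ι] (hG : EtCoh.KilledBy n G)
    (φ : cokernel (bq w (q + 1) F) ⟶ cokernel (bq w (q + 1) G))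
    (hφ : cokernel.π (bq w (q + 1) F) ≫ φ =
      (EtCoh.Rpush f' (q + 1)).map ((EtCoh.pull g').map ι) ≫ cokernel.π (bq w (q + 1) G)) :
    Mono φ := by
  have hS := shortExact_cokernel ι
  have hQ : EtCoh.KilledBy n (cokernel ι) :=
    (killedBy_iff n _).2 (killed_of_epi (cokernel.π ι) ((killedBy_iff n _).1 hG))
  have h3 : IsIso (bq w q (cokernel ι)) := H _ hQ
  refine Four.mono_coker (bqHom w) hS q ?_ ?_ φ hφ
  · exact inferInstanceAs (Epi (bq w q (cokernel ι)))
  · exact mono_bq w H hQ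

end Groth.Agent.EtBC.K1.BcMono
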