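import Groth.Agent.SGA4h.K557.BcPaste

/-!
# Vertical pasting of base change maps in all degrees

`Re : C ⥤ A` exact preserving injectives, `Rf : A ⥤ B`, `Re ⋙ Rf ≅ Ref`.

* `exists_pre`: the isomorphism of delta functors `R^q Rf (Re -) ≅ R^q Ref`;
* `exists_post`: for `Rf` exact, `Rf (R^q Re -) ≅ R^q Ref`;
* `vpaste_pre`, `vpaste_post`: compatibility with the abstract base change maps `BcAbs.bc`.
-/

set_option autoImplicit false
set_option backward.isDefEq.respectTransparency false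
universe v₁ v₂ v₃ v₄ v₅ v₆ u₁ u₂ u₃ u₄ u₅ u₆

open CategoryTheory CategoryTheory.Limits

noncomputable section

namespace Groth.Agent.EtBC.K1.BcVert

open Groth.Agent.Localalg.DeltaFun K557.DeltaCalc K557.BcAbs

section Comp

variable {C : Type u₁} [Category.{v₁} C] [Abelian C] [EnoughInjectives C]
  {A : Type u₂} [Category.{v₂} A] [Abelian A] [HasInjectiveResolutions A]
  {B : Type u₃} [Category.{v₃} B] [Abelian B]
  (Re : C ⥤ A) [Re.Additive] [PreservesFiniteLimits Re]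
  (Rf : A ⥤ B) [Rf.Additive] [PreservesFiniteLimits Rf]
  (Ref : C ⥤ B) [Ref.Additive] [PreservesFiniteLimits Ref] (c : Re ⋙ Rf ≅ Ref)

/-- `R^q Rf (Re -) ≅ R^q Ref` for `Re` exact preserving injectives. -/
theorem exists_pre [PreservesFiniteColimits Re] [Re.PreservesInjectiveObjects] :
    ∃ E : DeltaHom ((chainD Rf).precomp Re) (chainD Ref), (∀ n F, IsIso ((E.app n).app F)) ∧
      ∀ F : C, Rf.toRightDerivedZero.app (Re.obj F) ≫ (E.app 0).app F =
        c.hom.app F ≫ Ref.toRightDerivedZero.app F := by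
  have hT : ((chainD Rf).precomp Re).Effaceable := fun J _ n =>
    have : Injective (Re.obj J) := Re.injective_obj J
    Functor.isZero_rightDerived_obj_injective_succ Rf n (Re.obj J)
  let φ : Re ⋙ Rf.rightDerived 0 ≅ Ref.rightDerived 0 :=
    Functor.isoWhiskerLeft Re Rf.rightDerivedZeroIsoSelf ≪≫ c ≪≫ Ref.rightDerivedZeroIsoSelf.symm
  obtain ⟨E, hE⟩ := exists_deltaHom ((chainD Rf).precomp Re) (chainD Ref) hT φ.hom
  refine ⟨E, fun n F => ?_, fun F => ?_⟩
  · have h0 : IsIso (E.app 0) := by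
      rw [hE]
      infer_instance
    have h := E.isIso hT (chainD_eff Ref) h0 n
    exact inferInstance
  · rw [hE]
    change Rf.toRightDerivedZero.app (Re.obj F) ≫ Rf.rightDerivedZeroIsoSelf.hom.app (Re.obj F) ≫
      c.hom.app F ≫ Ref.rightDerivedZeroIsoSelf.inv.app F = _
    rw [← Category.assoc]
    have h1 : Rf.toRightDerivedZero.app (Re.obj F) ≫ Rf.rightDerivedZeroIsoSelf.hom.app (Re.obj F) =
      𝟙 _ := Rf.rightDerivedZeroIsoSelf_inv_hom_id_app (Re.obj F)
    rw [h1, Category.id_comp]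
    rfl

/-- `Rf (R^q Re -) ≅ R^q Ref` for `Rf` exact. -/
theorem exists_post [PreservesFiniteColimits Rf] :
    ∃ E : DeltaHom ((chainD Re).postcomp Rf) (chainD Ref), (∀ n F, IsIso ((E.app n).app F)) ∧
      ∀ F : C, Rf.map (Re.toRightDerivedZero.app F) ≫ (E.app 0).app F =
        c.hom.app F ≫ Ref.toRightDerivedZero.app F := by
  have hT : ((chainD Re).postcomp Rf).Effaceable := fun J _ n =>
    Rf.map_isZero (Functor.isZero_rightDerived_obj_injective_succ Re n J)
  let φ : Re.rightDerived 0 ⋙ Rf ≅ Ref.rightDerived 0 :=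
    Functor.isoWhiskerRight Re.rightDerivedZeroIsoSelf Rf ≪≫ c ≪≫ Ref.rightDerivedZeroIsoSelf.symm
  obtain ⟨E, hE⟩ := exists_deltaHom ((chainD Re).postcomp Rf) (chainD Ref) hT φ.hom
  refine ⟨E, fun n F => ?_, fun F => ?_⟩
  · have h0 : IsIso (E.app 0) := by
      rw [hE]
      infer_instance
    have h := E.isIso hT (chainD_eff Ref) h0 n
    exact inferInstance
  · rw [hE]
    change Rf.map (Re.toRightDerivedZero.app F) ≫ Rf.map (Re.rightDerivedZeroIsoSelf.hom.app F) ≫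
      c.hom.app F ≫ Ref.rightDerivedZeroIsoSelf.inv.app F = _
    rw [← Category.assoc, ← Rf.map_comp]
    have h1 : Re.toRightDerivedZero.app F ≫ Re.rightDerivedZeroIsoSelf.hom.app F =
      𝟙 _ := Re.rightDerivedZeroIsoSelf_inv_hom_id_app F
    rw [h1, Rf.map_id, Category.id_comp]
    rfl

end Comp

section Paste

variable {C : Type u₁} [Category.{v₁} C] [Abelian C] [EnoughInjectives C]
  {A : Type u₂} [Category.{v₂} A] [Abelian A] [HasInjectiveResolutions A]
  {B : Type u₃} [Category.{v₃} B] [Abelian B]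
  {C' : Type u₄} [Category.{v₄} C'] [Abelian C'] [HasInjectiveResolutions C']
  {A' : Type u₅} [Category.{v₅} A'] [Abelian A'] [HasInjectiveResolutions A']
  {B' : Type u₆} [Category.{v₆} B'] [Abelian B']
  {Re : C ⥤ A} [Re.Additive] [PreservesFiniteLimits Re]
  {Rf : A ⥤ B} [Rf.Additive] [PreservesFiniteLimits Rf]
  {Ref : C ⥤ B} [Ref.Additive] [PreservesFiniteLimits Ref] (c : Re ⋙ Rf ≅ Ref)
  {Re' : C' ⥤ A'} [Re'.Additive] [PreservesFiniteLimits Re']
  {Rf' : A' ⥤ B'} [Rf'.Additive] [PreservesFiniteLimits Rf']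
  {Ref' : C' ⥤ B'} [Ref'.Additive] [PreservesFiniteLimits Ref'] (c' : Re' ⋙ Rf' ≅ Ref')
  {Lg : B ⥤ B'} [Lg.Additive] [PreservesFiniteLimits Lg] [PreservesFiniteColimits Lg]
  {Rg : B' ⥤ B} [Rg.Additive] [PreservesFiniteLimits Rg]
  {Lg' : A ⥤ A'} [Lg'.Additive] [PreservesFiniteLimits Lg'] [PreservesFiniteColimits Lg']
  {Rg' : A' ⥤ A} [Rg'.Additive] [Rg'.PreservesInjectiveObjects]
  {Lk : C ⥤ C'} [Lk.Additive] [PreservesFiniteLimits Lk] [PreservesFiniteColimits Lk]
  {Rk : C' ⥤ C} [Rk.Additive] [Rk.PreservesInjectiveObjects]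
  (adjg : Lg ⊣ Rg) (adjg' : Lg' ⊣ Rg') (adjk : Lk ⊣ Rk)
  (e₁ : Rg' ⋙ Rf ≅ Rf' ⋙ Rg) (e₀ : Rk ⋙ Ref ≅ Ref' ⋙ Rg)

section Pre

variable [PreservesFiniteColimits Re] [Re.PreservesInjectiveObjects]
  [PreservesFiniteColimits Re'] [Re'.PreservesInjectiveObjects]
  (β : Re ⋙ Lg' ⟶ Lk ⋙ Re')
  (E : DeltaHom ((chainD Rf).precomp Re) (chainD Ref))
  (E' : DeltaHom ((chainD Rf').precomp Re') (chainD Ref'))

attribute [local instance] comp_preservesFiniteLimits comp_preservesFiniteColimits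

/-- One side. -/
def vpreL : DeltaHom ((chainD Rf).precomp Re |>.postcomp Lg) ((chainD Ref').precomp Lk) :=
  comp (postW E Lg) (bcHom e₀ adjk adjg)

/-- The other side. -/
def vpreR : DeltaHom ((chainD Rf).precomp Re |>.postcomp Lg) ((chainD Ref').precomp Lk) :=
  comp (preW (bcHom e₁ adjg' adjg) Re) (comp (ofPre (chainD Rf') β) (preW E' Lk))

theorem vpaste_pre
    (h0 : ∀ F, Lg.map (c.hom.app F) ≫ bcz e₀ adjk adjg F =
      bcz e₁ adjg' adjg (Re.obj F) ≫ Rf'.map (β.app F) ≫ c'.hom.app (Lk.obj F))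
    (hE : ∀ F : C, Rf.toRightDerivedZero.app (Re.obj F) ≫ (E.app 0).app F =
        c.hom.app F ≫ Ref.toRightDerivedZero.app F)
    (hE' : ∀ F : C', Rf'.toRightDerivedZero.app (Re'.obj F) ≫ (E'.app 0).app F =
        c'.hom.app F ≫ Ref'.toRightDerivedZero.app F) (q : ℕ) (F : C) :
    Lg.map ((E.app q).app F) ≫ bc e₀ adjk adjg q F =
      bc e₁ adjg' adjg q (Re.obj F) ≫ (Rf'.rightDerived q).map (β.app F) ≫ (E'.app q).app (Lk.obj F) := by
  refine ext_app (T := (chainD Rf).precomp Re |>.postcomp Lg) (T' := (chainD Ref').precomp Lk)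
    (fun J _ n => ?_) (vpreL adjg adjk e₀ E) (vpreR adjg adjg' e₁ β E') (fun F => ?_) q F
  · have : Injective (Re.obj J) := Re.injective_obj J
    exact Lg.map_isZero (Functor.isZero_rightDerived_obj_injective_succ Rf n (Re.obj J))
  · change Lg.map ((E.app 0).app F) ≫ bc e₀ adjk adjg 0 F =
      bc e₁ adjg' adjg 0 (Re.obj F) ≫ (Rf'.rightDerived 0).map (β.app F) ≫ (E'.app 0).app (Lk.obj F)
    have hz : IsIso (Rf.toRightDerivedZero.app (Re.obj F)) := inferInstance
    rw [← cancel_epi (Lg.map (Rf.toRightDerivedZero.app (Re.obj F)))]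
    have h1 : Lg.map (Rf.toRightDerivedZero.app (Re.obj F)) ≫ Lg.map ((E.app 0).app F) =
        Lg.map (c.hom.app F) ≫ Lg.map (Ref.toRightDerivedZero.app F) := by
      rw [← Lg.map_comp, ← Lg.map_comp]
      exact congrArg Lg.map (hE F)
    have h2 : Rf'.toRightDerivedZero.app (Lg'.obj (Re.obj F)) ≫ (Rf'.rightDerived 0).map (β.app F) =
        Rf'.map (β.app F) ≫ Rf'.toRightDerivedZero.app (Re'.obj (Lk.obj F)) :=
      (Rf'.toRightDerivedZero.naturality (β.app F)).symm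
    rw [reassoc_of% h1, toRDZ_bc, toRDZ_bc_assoc, reassoc_of% h2, hE', reassoc_of% h0 F]

end Pre

section Post

variable [PreservesFiniteColimits Rf] [PreservesFiniteColimits Rf']
  (e₂ : Rk ⋙ Re ≅ Re' ⋙ Rg') (γ : Rf ⋙ Lg ⟶ Lg' ⋙ Rf')
  (D : DeltaHom ((chainD Re).postcomp Rf) (chainD Ref))
  (D' : DeltaHom ((chainD Re').postcomp Rf') (chainD Ref')) [PreservesFiniteLimits Rg']

attribute [local instance] comp_preservesFiniteLimits comp_preservesFiniteColimits

/-- One side. -/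
def vpostL : DeltaHom ((chainD Re).postcomp Rf |>.postcomp Lg) ((chainD Ref').precomp Lk) :=
  comp (postW D Lg) (bcHom e₀ adjk adjg)

/-- The other side. -/
def vpostR : DeltaHom ((chainD Re).postcomp Rf |>.postcomp Lg) ((chainD Ref').precomp Lk) :=
  comp (ofPost (chainD Re) γ) (comp (postW (bcHom e₂ adjk adjg') Rf') (preW D' Lk))

theorem vpaste_post
    (h0 : ∀ F, Lg.map (c.hom.app F) ≫ bcz e₀ adjk adjg F =
      γ.app (Re.obj F) ≫ Rf'.map (bcz e₂ adjk adjg' F) ≫ c'.hom.app (Lk.obj F))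
    (hD : ∀ F : C, Rf.map (Re.toRightDerivedZero.app F) ≫ (D.app 0).app F =
        c.hom.app F ≫ Ref.toRightDerivedZero.app F)
    (hD' : ∀ F : C', Rf'.map (Re'.toRightDerivedZero.app F) ≫ (D'.app 0).app F =
        c'.hom.app F ≫ Ref'.toRightDerivedZero.app F) (q : ℕ) (F : C) :
    Lg.map ((D.app q).app F) ≫ bc e₀ adjk adjg q F =
      γ.app ((Re.rightDerived q).obj F) ≫ Rf'.map (bc e₂ adjk adjg' q F) ≫
        (D'.app q).app (Lk.obj F) := by
  refine ext_app (T := (chainD Re).postcomp Rf |>.postcomp Lg) (T' := (chainD Ref').precomp Lk)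
    (fun J _ n => ?_) (vpostL adjg adjk e₀ D) (vpostR adjg' adjk e₂ γ D') (fun F => ?_) q F
  · exact Lg.map_isZero (Rf.map_isZero (Functor.isZero_rightDerived_obj_injective_succ Re n J))
  · change Lg.map ((D.app 0).app F) ≫ bc e₀ adjk adjg 0 F =
      γ.app ((Re.rightDerived 0).obj F) ≫ Rf'.map (bc e₂ adjk adjg' 0 F) ≫ (D'.app 0).app (Lk.obj F)
    have hz : IsIso (Re.toRightDerivedZero.app F) := inferInstance
    rw [← cancel_epi (Lg.map (Rf.map (Re.toRightDerivedZero.app F)))]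
    have h1 : Lg.map (Rf.map (Re.toRightDerivedZero.app F)) ≫ Lg.map ((D.app 0).app F) =
        Lg.map (c.hom.app F) ≫ Lg.map (Ref.toRightDerivedZero.app F) := by
      rw [← Lg.map_comp, ← Lg.map_comp]
      exact congrArg Lg.map (hD F)
    have h2 : Lg.map (Rf.map (Re.toRightDerivedZero.app F)) ≫ γ.app ((Re.rightDerived 0).obj F) =
        γ.app (Re.obj F) ≫ Rf'.map (Lg'.map (Re.toRightDerivedZero.app F)) :=
      γ.naturality (Re.toRightDerivedZero.app F)
    have h3 : Rf'.map (Lg'.map (Re.toRightDerivedZero.app F)) ≫ Rf'.map (bc e₂ adjk adjg' 0 F) =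
        Rf'.map (bcz e₂ adjk adjg' F) ≫ Rf'.map (Re'.toRightDerivedZero.app (Lk.obj F)) := by
      rw [← Rf'.map_comp, ← Rf'.map_comp, toRDZ_bc]
    rw [reassoc_of% h1, toRDZ_bc, reassoc_of% h2, reassoc_of% h3, hD', reassoc_of% h0 F]

end Post

end Paste

end Groth.Agent.EtBC.K1.BcVert
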