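import Groth.Agent.EtBC.K1.BcVert
import Groth.Agent.SGA4h.K557.BcQ
import Groth.Agent.EtpbcB.IntegralBC
import Groth.Agent.Sga4h.IntPushZero

/-!
# Vertical pasting for `EtBC.bcQ`

Squares `w₁ : g' ≫ f = f' ≫ g`, `w₂ : k ≫ e = e' ≫ g'` with composite `w : k ≫ (e ≫ f) = (e' ≫ f') ≫ g`.

* `isIso_bq_vpre`: `e`, `e'` integral, `w₂` cartesian: `bq w q F` is iso iff `bq w₁ q (e_* F)` is;
* `isIso_bq_vpost`: `f`, `f'` integral, `w₁` cartesian: `bq w q F` is iso iff `bq w₂ q F` is.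
-/

set_option autoImplicit false
universe u
open CategoryTheory CategoryTheory.Limits AlgebraicGeometry Opposite

namespace Groth.Agent.EtBC.K1.BqVert

open K557.BcQ K557.BcAbs Groth.Agent.Localalg.DeltaFun Groth.Agent.EtpbcB.BCCalc EtCoh
open scoped Groth.Agent.Sga4B.EtAbInst

variable {X Y Z X' Y' Z' : Scheme.{u}} {f : X ⟶ Y} {g : Y' ⟶ Y} {f' : X' ⟶ Y'} {g' : X' ⟶ X}
  {e : Z ⟶ X} {e' : Z' ⟶ X'} {k : Z' ⟶ Z} (w₁ : g' ≫ f = f' ≫ g) (w₂ : k ≫ e = e' ≫ g')
  (w : k ≫ (e ≫ f) = (e' ≫ f') ≫ g)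

theorem bq_vpre [PreservesFiniteColimits (push e)] [PreservesFiniteColimits (push e')] (q : ℕ)
    (F : EtCoh.Ab Z) :
    ∃ (a : (Rpush f q).obj ((push e).obj F) ⟶ (Rpush (e ≫ f) q).obj F)
      (b : (Rpush f' q).obj ((push e').obj ((pull k).obj F)) ⟶
        (Rpush (e' ≫ f') q).obj ((pull k).obj F)), IsIso a ∧ IsIso b ∧
      (pull g).map a ≫ bq w q F =
        bq w₁ q ((push e).obj F) ≫ (Rpush f' q).map (baseChange0 e g' e' k w₂ F) ≫ b := by
  obtain ⟨E, hE1, hE2⟩ := BcVert.exists_pre (push e) (push f) (push (e ≫ f)) (pushComp f e)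
  obtain ⟨E', hE1', hE2'⟩ := BcVert.exists_pre (push e') (push f') (push (e' ≫ f')) (pushComp f' e')
  refine ⟨(E.app q).app F, (E'.app q).app ((pull k).obj F), hE1 q F, hE1' q _, ?_⟩
  exact BcVert.vpaste_pre (pushComp f e) (pushComp f' e') (pullPushAdj g) (pullPushAdj g')
    (pullPushAdj k) (sqIso w₁) (sqIso w) (bcNat w₂) E E'
    (fun F => baseChange0_vpaste w₁ w₂ w F) hE2 hE2' q F

theorem bq_vpost [PreservesFiniteColimits (push f)] [PreservesFiniteColimits (push f')] (q : ℕ)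
    (F : EtCoh.Ab Z) :
    ∃ (a : (push f).obj ((Rpush e q).obj F) ⟶ (Rpush (e ≫ f) q).obj F)
      (b : (push f').obj ((Rpush e' q).obj ((pull k).obj F)) ⟶
        (Rpush (e' ≫ f') q).obj ((pull k).obj F)), IsIso a ∧ IsIso b ∧
      (pull g).map a ≫ bq w q F =
        baseChange0 f g f' g' w₁ ((Rpush e q).obj F) ≫ (push f').map (bq w₂ q F) ≫ b := by
  obtain ⟨E, hE1, hE2⟩ := BcVert.exists_post (push e) (push f) (push (e ≫ f)) (pushComp f e)
  obtain ⟨E', hE1', hE2'⟩ := BcVert.exists_post (push e') (push f') (push (e' ≫ f')) (pushComp f' e')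
  refine ⟨(E.app q).app F, (E'.app q).app ((pull k).obj F), hE1 q F, hE1' q _, ?_⟩
  exact BcVert.vpaste_post (pushComp f e) (pushComp f' e') (pullPushAdj g) (pullPushAdj g')
    (pullPushAdj k) (sqIso w) (sqIso w₂) (bcNat w₁) E E'
    (fun F => baseChange0_vpaste w₁ w₂ w F) hE2 hE2' q F

theorem isIso_bq_vpre [PreservesFiniteColimits (push e)] [PreservesFiniteColimits (push e')] (q : ℕ)
    (F : EtCoh.Ab Z) (h : IsIso (baseChange0 e g' e' k w₂ F)) :
    IsIso (bq w q F) ↔ IsIso (bq w₁ q ((push e).obj F)) := by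
  obtain ⟨a, b, ha, hb, key⟩ := bq_vpre w₁ w₂ w q F
  have i1 : IsIso ((pull g).map a) := inferInstance
  have i2 : IsIso ((Rpush f' q).map (baseChange0 e g' e' k w₂ F)) := inferInstance
  rw [← isIso_comp_left_iff ((pull g).map a) (bq w q F), key, isIso_comp_right_iff]

theorem isIso_bq_vpost [PreservesFiniteColimits (push f)] [PreservesFiniteColimits (push f')]
    [(push f').ReflectsIsomorphisms] (q : ℕ)
    (F : EtCoh.Ab Z) (h : IsIso (baseChange0 f g f' g' w₁ ((Rpush e q).obj F))) :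
    IsIso (bq w q F) ↔ IsIso (bq w₂ q F) := by
  obtain ⟨a, b, ha, hb, key⟩ := bq_vpost w₁ w₂ w q F
  have i1 : IsIso ((pull g).map a) := inferInstance
  rw [← isIso_comp_left_iff ((pull g).map a) (bq w q F), key, isIso_comp_left_iff,
    isIso_comp_right_iff]
  exact ⟨fun h => isIso_of_reflects_iso (bq w₂ q F) (push f'), fun h => inferInstance⟩

end Groth.Agent.EtBC.K1.BqVert
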