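import Groth.Agent.EtBC.K1.HQDisj

/-!
# Classes which come from `T` after base change to `T`

`F` a sheaf on `X`, `z : Z ⟶ X`, `y : Y ⟶ Z` and a class `ξ ∈ H^n(Y, F)`.  For `τ : T ⟶ Z` we say
`SurjAt F z y n ξ τ` if the restriction of `ξ` to `Y ×_Z T` comes from a class in `H^n(T, F)`.

* `SurjAt.comp`: stability under `T' ⟶ T`;
* `SurjAt.of_disj`: gluing for a disjoint union of two open subschemes;
-/

set_option autoImplicit false
set_option maxHeartbeats 100000
universe u
open CategoryTheory CategoryTheory.Limits AlgebraicGeometry Opposite Abelian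
open scoped Groth.Agent.Etcore.EtInst
open Groth.Agent.Etcore.EtInst Groth.Agent.Etcore.HpullCalc Groth.Agent.Etcore.PullCoh
  Groth.Agent.Etcore.HpVia Groth.Agent.Etcore.HQ Groth.Agent.Etcore.LimBC1

namespace Groth.Agent.EtBC.K1.SurjAt

attribute [local instance] pfl

variable {X Y Z : Scheme.{u}} (F : EtCoh.Ab X) (z : Z ⟶ X) (y : Y ⟶ Z) (n : ℕ)

/-- The restriction of `ξ` to `Y ×_Z T` comes from `T`. -/
def SurjAt (ξ : HQ F (y ≫ z) n) {T : Scheme.{u}} (τ : T ⟶ Z) : Prop :=
  ∃ η : HQ F (τ ≫ z) n,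
    res F (pullback.snd y τ) (by rw [← Category.assoc, ← Category.assoc, pullback.condition]) n η =
      res F (q' := pullback.fst y τ ≫ y ≫ z) (pullback.fst y τ) rfl n ξ

variable {F z y n}

/-- A flexible criterion for `SurjAt`: any cartesian square will do. -/
theorem surjAt_iff {ξ : HQ F (y ≫ z) n} {T : Scheme.{u}} {τ : T ⟶ Z} {P : Scheme.{u}} {a : P ⟶ Y}
    {b : P ⟶ T} (c : IsPullback a b y τ) {r : P ⟶ X} (ha : a ≫ y ≫ z = r) {t : T ⟶ X}
    (ht : τ ≫ z = t) (hb : b ≫ t = r) :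
    SurjAt F z y n ξ τ ↔ ∃ η : HQ F t n, res F b hb n η = res F a ha n ξ := by
  subst ht
  have e1 : c.isoPullback.hom ≫ pullback.fst y τ = a := c.isoPullback_hom_fst
  have e2 : c.isoPullback.hom ≫ pullback.snd y τ = b := c.isoPullback_hom_snd
  have hr : c.isoPullback.hom ≫ pullback.fst y τ ≫ y ≫ z = r := by
    rw [← Category.assoc, e1, ha]
  have key : ∀ η : HQ F (τ ≫ z) n,
      (res F (pullback.snd y τ) (by rw [← Category.assoc, ← Category.assoc, pullback.condition]) n η =
        res F (q' := pullback.fst y τ ≫ y ≫ z) (pullback.fst y τ) rfl n ξ) ↔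
      res F b hb n η = res F a ha n ξ := by
    intro η
    have h1 := res_res F (pullback.snd y τ) (q' := pullback.fst y τ ≫ y ≫ z)
      (by rw [← Category.assoc, ← Category.assoc, pullback.condition]) c.isoPullback.hom hr b e2 hb n η
    have h2 := res_res F (pullback.fst y τ) (q' := pullback.fst y τ ≫ y ≫ z)
      rfl c.isoPullback.hom hr a e1 ha n ξ
    rw [← h1, ← h2]
    exact ((res_bijective F c.isoPullback.hom hr n).1.eq_iff).symm
  exact exists_congr key

theorem SurjAt.comp {ξ : HQ F (y ≫ z) n} {T T' : Scheme.{u}} {τ : T ⟶ Z} (h : SurjAt F z y n ξ τ)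
    (k : T' ⟶ T) {τ' : T' ⟶ Z} (hk : k ≫ τ = τ') : SurjAt F z y n ξ τ' := by
  subst hk
  obtain ⟨η, hη⟩ := h
  let m : pullback y (k ≫ τ) ⟶ pullback y τ := pullback.lift (pullback.fst y (k ≫ τ))
    (pullback.snd y (k ≫ τ) ≫ k) (by rw [pullback.condition, Category.assoc])
  have hm1 : m ≫ pullback.fst y τ = pullback.fst y (k ≫ τ) := pullback.lift_fst _ _ _
  have hm2 : m ≫ pullback.snd y τ = pullback.snd y (k ≫ τ) ≫ k := pullback.lift_snd _ _ _
  have hb : pullback.snd y (k ≫ τ) ≫ (k ≫ τ) ≫ z = pullback.fst y (k ≫ τ) ≫ y ≫ z := by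
    rw [← Category.assoc, ← pullback.condition, Category.assoc]
  have hb0 : pullback.snd y τ ≫ τ ≫ z = pullback.fst y τ ≫ y ≫ z := by
    rw [← Category.assoc, ← Category.assoc, pullback.condition]
  have hm : m ≫ pullback.fst y τ ≫ y ≫ z = pullback.fst y (k ≫ τ) ≫ y ≫ z := by
    rw [← Category.assoc, hm1]
  have hk : k ≫ τ ≫ z = (k ≫ τ) ≫ z := (Category.assoc _ _ _).symm
  have hkk : (pullback.snd y (k ≫ τ) ≫ k) ≫ τ ≫ z = pullback.fst y (k ≫ τ) ≫ y ≫ z := by
    rw [Category.assoc, hk, hb]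
  refine ⟨res F k hk n η, ?_⟩
  rw [res_res F k hk (pullback.snd y (k ≫ τ)) hb _ rfl hkk n η,
    ← res_res F (pullback.snd y τ) hb0 m hm _ hm2 hkk n η, hη,
    res_res F (pullback.fst y τ) rfl m hm _ hm1 rfl n ξ]

/-- Gluing on a disjoint union of two open subschemes. -/
theorem SurjAt.of_disj {ξ : HQ F (y ≫ z) n} {T U V : Scheme.{u}} (j : U ⟶ T) (k : V ⟶ T)
    [IsOpenImmersion j] [IsOpenImmersion k] (hd : Disjoint (Set.range j) (Set.range k))
    (hc : Set.range j ∪ Set.range k = Set.univ) {τ : T ⟶ Z}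
    (hj : SurjAt F z y n ξ (j ≫ τ)) (hk : SurjAt F z y n ξ (k ≫ τ)) : SurjAt F z y n ξ τ := by
  let j' : pullback (pullback.snd y τ) j ⟶ pullback y τ := pullback.fst _ _
  let k' : pullback (pullback.snd y τ) k ⟶ pullback y τ := pullback.fst _ _
  have hjr : Set.range j' = pullback.snd y τ ⁻¹' Set.range j := by
    exact Scheme.Pullback.range_fst _ _
  have hkr : Set.range k' = pullback.snd y τ ⁻¹' Set.range k := by
    exact Scheme.Pullback.range_fst _ _
  have hd' : Disjoint (Set.range j') (Set.range k') := by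
    rw [hjr, hkr]
    exact hd.preimage _
  have hc' : Set.range j' ∪ Set.range k' = Set.univ := by
    rw [hjr, hkr, ← Set.preimage_union, hc, Set.preimage_univ]
  have cj : IsPullback (j' ≫ pullback.fst y τ) (pullback.snd (pullback.snd y τ) j) y (j ≫ τ) :=
    (IsPullback.of_hasPullback (pullback.snd y τ) j).flip.paste_vert
      (IsPullback.of_hasPullback y τ).flip |>.flip
  have ck : IsPullback (k' ≫ pullback.fst y τ) (pullback.snd (pullback.snd y τ) k) y (k ≫ τ) :=
    (IsPullback.of_hasPullback (pullback.snd y τ) k).flip.paste_vert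
      (IsPullback.of_hasPullback y τ).flip |>.flip
  have hb0 : pullback.snd y τ ≫ τ ≫ z = pullback.fst y τ ≫ y ≫ z := by
    rw [← Category.assoc, ← Category.assoc, pullback.condition]
  have hbj : pullback.snd (pullback.snd y τ) j ≫ j ≫ τ ≫ z = j' ≫ pullback.fst y τ ≫ y ≫ z := by
    rw [← Category.assoc, ← pullback.condition, Category.assoc, hb0]
  have hbk : pullback.snd (pullback.snd y τ) k ≫ k ≫ τ ≫ z = k' ≫ pullback.fst y τ ≫ y ≫ z := by
    rw [← Category.assoc, ← pullback.condition, Category.assoc, hb0]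
  rw [surjAt_iff cj (Category.assoc _ _ _) (Category.assoc _ _ _) hbj] at hj
  rw [surjAt_iff ck (Category.assoc _ _ _) (Category.assoc _ _ _) hbk] at hk
  obtain ⟨ηj, hηj⟩ := hj
  obtain ⟨ηk, hηk⟩ := hk
  obtain ⟨η, h1, h2⟩ := HQDisj.exists_of_disj j k hd hc F (q := τ ≫ z) rfl rfl n ηj ηk
  refine ⟨η, ?_⟩
  refine HQDisj.eq_of_disj j' k' hd' hc' F rfl rfl n _ _ ?_ ?_
  · rw [res_res F (pullback.snd y τ) hb0 j' rfl _ pullback.condition
        (by rw [Category.assoc]; exact hbj) n η,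
      ← res_res F j rfl (pullback.snd (pullback.snd y τ) j) hbj _ rfl
        (by rw [Category.assoc]; exact hbj) n η, h1, hηj,
      res_res F (pullback.fst y τ) rfl j' rfl _ rfl (Category.assoc _ _ _) n ξ]
  · rw [res_res F (pullback.snd y τ) hb0 k' rfl _ pullback.condition
        (by rw [Category.assoc]; exact hbk) n η,
      ← res_res F k rfl (pullback.snd (pullback.snd y τ) k) hbk _ rfl
        (by rw [Category.assoc]; exact hbk) n η, h2, hηk,
      res_res F (pullback.fst y τ) rfl k' rfl _ rfl (Category.assoc _ _ _) n ξ]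

end Groth.Agent.EtBC.K1.SurjAt
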