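import Groth.Agent.EtBC.K1.EdgeHp
import Groth.Agent.EtBC.K1.BcMono
import Groth.Agent.EtBC.K1.SurjAt
import Groth.Agent.Sga4h.H929.NExact

/-!
# Descent of `SurjAt` along surjective morphisms

For a commutative square `k' ≫ π = π' ≫ k` with `π : T' ⟶ T` surjective, such that the base change maps of the
square are isomorphisms in degrees `≤ m` for `N`-torsion sheaves, and `H^m(T, G) → H^m(T_R, k⁻¹ G)` is surjective for
`N`-torsion sheaves: a class in `H^{m+1}(T_R, k⁻¹ F)` comes from `T` if its restriction to `P` comes from `T'`.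
-/

set_option autoImplicit false
universe u
open CategoryTheory CategoryTheory.Limits AlgebraicGeometry Opposite Abelian
open scoped Groth.Agent.Etcore.EtInst Groth.Agent.Sga4B.EtAbInst
open Groth.Agent.Etcore.EtInst Groth.Agent.Etcore.HpullCalc Groth.Agent.Etcore.PullCoh Groth.Agent.Etcore.HQ
open K557.BcQ K557.BcAbs Groth.Agent.Localalg.DeltaFun Groth.Agent.EtpbcB.NKill Groth.Agent.EtpbcB.NKillEt
open Groth.Agent.EtBC.K1.SurjAt

namespace Groth.Agent.EtBC.K1.Descent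

attribute [local instance] pfl

variable {T T' TR P : Scheme.{u}} {k : TR ⟶ T} {π : T' ⟶ T} {π' : P ⟶ TR} {k' : P ⟶ T'}
  (w : k' ≫ π = π' ≫ k)

theorem isIso_baseChange0_of_bq (G : EtCoh.Ab T') (h : IsIso (bq w 0 G)) :
    IsIso (EtCoh.baseChange0 π k π' k' w G) := by
  rw [bq_zero, Groth.Agent.Sga4B.BCDelta.bc0_app] at h
  have h1 : IsIso ((EtCoh.pull k).map ((Groth.Agent.Sga4B.BCDelta.zeroIso π).hom.app G)) := inferInstance
  have h2 := (isIso_comp_left_iff _ _).1 h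
  exact (isIso_comp_right_iff _ _).1 h2

/-- exactness for `hp` -/
theorem exists_hp_eq_of_map_eq_zero {F G : EtCoh.Ab T} (ι : F ⟶ G) [Mono ι] (m : ℕ)
    (hsur : Function.Surjective (hp k (cokernel ι) m)) (ξ : HH TR ((EtCoh.pull k).obj F) (m + 1))
    (h : HHmap ((EtCoh.pull k).map ι) (m + 1) ξ = 0) : ∃ x : HH T F (m + 1), hp k F (m + 1) x = ξ := by
  have hS := shortExact_cokernel ι
  obtain ⟨y, hy⟩ := exists_δ_eq hS k m ξ h
  obtain ⟨y₀, rfl⟩ := hsur y
  refine ⟨Ext.comp y₀ hS.extClass rfl, ?_⟩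
  rw [← hy]
  exact hp_extClass k hS rfl y₀

theorem exists_hp_eq [Surjective π] {N m : ℕ}
    (hbc : ∀ G : EtCoh.Ab T', EtCoh.KilledBy N G → ∀ a ≤ m, IsIso (bq w a G))
    (hsur : ∀ G : EtCoh.Ab T, EtCoh.KilledBy N G → Function.Surjective (hp k G m))
    {F : EtCoh.Ab T} (hF : EtCoh.KilledBy N F) {r : P ⟶ T} (hr₁ : π' ≫ k = r) (hr₂ : k' ≫ π = r)
    (ξ : HQ F k (m + 1)) (η : HQ F π (m + 1))
    (h : res F k' hr₂ (m + 1) η = res F π' hr₁ (m + 1) ξ) :
    ∃ x : HH T F (m + 1), hp k F (m + 1) x = ξ := by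
  obtain ⟨I, i, hi, hI, hI0, hI1⟩ := BcMono.exists_acyc (killedBy_pull π hF)
  have hu : Mono ((EtCoh.pullPushAdj π).unit.app F) := Groth.Agent.Sga4h.H929.NExact.mono_unit π F
  have hpi : Mono ((EtCoh.push π).map i) := inferInstance
  let ι : F ⟶ (EtCoh.push π).obj I := (EtCoh.pullPushAdj π).unit.app F ≫ (EtCoh.push π).map i
  have hι : Mono ι := mono_comp _ _
  have hK : EtCoh.KilledBy N ((EtCoh.push π).obj I) := killedBy_push π hI
  have hQ : EtCoh.KilledBy N (cokernel ι) :=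
    (killedBy_iff N _).2 (killed_of_epi (cokernel.π ι) ((killedBy_iff N _).1 hK))
  refine exists_hp_eq_of_map_eq_zero ι m (hsur _ hQ) ξ ?_
  refine EdgeHp.map_eq_zero_of_acyclic w hr₁ hr₂ ι (m + 1) (hI1 m)
    (isIso_baseChange0_of_bq w I (hbc I hI 0 (Nat.zero_le _))) (fun p q hpq => ?_) ξ η h
  have h1 := hbc I hI (q + 1) (by omega)
  exact ((EtCoh.pull k).map_isZero (hI0 π q)).of_iso (asIso (bq w (q + 1) I)).symm

end Groth.Agent.EtBC.K1.Descent
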