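import Groth.Agent.Etcore.PullCoh
import Groth.Agent.EtpbcB.BCCalc

/-!
# The base change map in degree zero and the counits

`map_baseChange0_counit`: for `w : k' ≫ π = π' ≫ k` and the comparison isomorphisms `th`,
`π'⁻¹ (bc) ≫ counit = th π' k ≫ (th k' π)⁻¹ ≫ k'⁻¹ counit`.
(Light version of `Sga4B.HpullSquare` and `Sga4h.H513.LocEdge`, no cohomology.)
-/

set_option autoImplicit false
universe u v₁ v₂ v₃ v₄ u₁ u₂ u₃ u₄
open CategoryTheory CategoryTheory.Limits AlgebraicGeometry Opposite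

namespace Groth.Agent.EtBC.K1.SquareTh

section Abstract

variable {C : Type u₁} [Category.{v₁} C] {D : Type u₂} [Category.{v₂} D]
variable {C' : Type u₃} [Category.{v₃} C'] {D' : Type u₄} [Category.{v₄} D']
variable {Φ : C ⥤ D} {Ψ : D ⥤ C} (a : Φ ⊣ Ψ)
variable {Φ' : C' ⥤ D'} {Ψ' : D' ⥤ C'} (a' : Φ' ⊣ Ψ')
variable {L : C ⥤ C'} {R : C' ⥤ C} (adj : L ⊣ R)
variable {L' : D ⥤ D'} {R' : D' ⥤ D} (adj' : L' ⊣ R')
variable (ρ : Ψ' ⋙ R ≅ R' ⋙ Ψ)

/-- The isomorphism of left adjoints conjugate to an isomorphism of right adjoints. -/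
noncomputable def theta : Φ ⋙ L' ≅ L ⋙ Φ' :=
  (conjugateIsoEquiv (adj.comp a') (a.comp adj')).symm ρ

theorem unit_theta (Z : C) :
    (adj.comp a').unit.app Z ≫ ρ.hom.app ((L ⋙ Φ').obj Z) =
      (a.comp adj').unit.app Z ≫ (R' ⋙ Ψ).map ((theta a a' adj adj' ρ).hom.app Z) :=
  unit_conjugateEquiv_symm (adj.comp a') (a.comp adj') ρ.hom Z

/-- The base change map attached to `ρ` and its characterization by `theta`. -/
theorem map_bc_counit (K : C') :
    L'.map ((a.homEquiv _ _).symm (R.map (a'.unit.app K) ≫ ρ.hom.app (Φ'.obj K))) ≫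
      adj'.counit.app (Φ'.obj K) =
    (theta a a' adj adj' ρ).hom.app (R.obj K) ≫ Φ'.map (adj.counit.app K) := by
  refine (Adjunction.homEquiv_counit (adj := adj') (g :=
    (a.homEquiv (R.obj K) (R'.obj (Φ'.obj K))).symm
      (R.map (a'.unit.app K) ≫ ρ.hom.app (Φ'.obj K)))).symm.trans ?_
  apply (adj'.homEquiv (Φ.obj (R.obj K)) (Φ'.obj K)).injective
  apply (a.homEquiv (R.obj K) (R'.obj (Φ'.obj K))).injective
  rw [Equiv.apply_symm_apply, Equiv.apply_symm_apply]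
  refine Eq.trans ?_ (a.homEquiv_unit _ _ _).symm
  rw [adj'.homEquiv_unit]
  have h1 := unit_theta a a' adj adj' ρ (R.obj K)
  have h2 : a.unit.app (R.obj K) ≫ Ψ.map (adj'.unit.app (Φ.obj (R.obj K)) ≫
      R'.map ((theta a a' adj adj' ρ).hom.app (R.obj K) ≫ Φ'.map (adj.counit.app K))) =
      ((a.comp adj').unit.app (R.obj K) ≫
        (R' ⋙ Ψ).map ((theta a a' adj adj' ρ).hom.app (R.obj K))) ≫
        (R' ⋙ Ψ).map (Φ'.map (adj.counit.app K)) := by
    simp [Adjunction.comp_unit_app]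
  have h3 : ρ.hom.app ((L ⋙ Φ').obj (R.obj K)) ≫ (R' ⋙ Ψ).map (Φ'.map (adj.counit.app K)) =
      (Ψ' ⋙ R).map (Φ'.map (adj.counit.app K)) ≫ ρ.hom.app (Φ'.obj K) :=
    (ρ.hom.naturality _).symm
  refine Eq.trans ?_ h2.symm
  rw [← h1, Category.assoc, h3, Adjunction.comp_unit_app]
  have h4 : a'.unit.app (L.obj (R.obj K)) ≫ Ψ'.map (Φ'.map (adj.counit.app K)) =
      adj.counit.app K ≫ a'.unit.app K := (a'.unit.naturality _).symm
  simp only [Functor.comp_map, Category.assoc]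
  rw [← R.map_comp_assoc, h4, R.map_comp]
  simp

end Abstract

section Square

open Groth.Agent.Etcore.PullCoh

variable {X Y X' Y' : Scheme.{u}} (f : X ⟶ Y) (g : Y' ⟶ Y) (f' : X' ⟶ Y') (g' : X' ⟶ X)
  (w : g' ≫ f = f' ≫ g)

/-- The isomorphism between the two composites of inverse images. -/
noncomputable def pullSquare : EtCoh.pull g ⋙ EtCoh.pull f' ≅ EtCoh.pull f ⋙ EtCoh.pull g' :=
  theta (EtCoh.pullPushAdj g) (EtCoh.pullPushAdj g') (EtCoh.pullPushAdj f)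
    (EtCoh.pullPushAdj f') (EtpbcB.BCCalc.sq w)

/-- `pullSquare` on the sections coming from the base. -/
theorem pullSquare_eta (G : EtCoh.Ab Y) (U : Y.Etale) (s : EtCoh.sect G U) :
    ((pullSquare f g f' g' w).hom.app G).hom.app _ (eta f' _ _ (eta g G U s)) =
      ((EtCoh.pull g').obj ((EtCoh.pull f).obj G)).obj.map (EtpbcB.BCCalc.theta w U).hom.op
        (eta g' _ _ (eta f G U s)) := by
  have h := unit_theta (EtCoh.pullPushAdj g) (EtCoh.pullPushAdj g') (EtCoh.pullPushAdj f)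
    (EtCoh.pullPushAdj f') (EtpbcB.BCCalc.sq w) G
  have h1 := congrArg (fun k => k.hom.app (op U) s) h
  have h2 := congrArg (fun k => k.hom (eta g' _ _ (eta f G U s))) (EtpbcB.BCCalc.sq_hom_app_app w
    ((EtCoh.pull g').obj ((EtCoh.pull f).obj G)) U)
  refine Eq.trans ?_ h2
  exact h1.symm

/-- `pullSquare` through the common composite. -/
theorem pullSquare_th (f₀ : X' ⟶ Y) (w₁ : f' ≫ g = f₀) (w₂ : g' ≫ f = f₀) (G : EtCoh.Ab Y) :
    (pullSquare f g f' g' w).hom.app G ≫ th g' f f₀ w₂ G = th f' g f₀ w₁ G := by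
  refine pull_hom_ext₂ f' g _ _ fun U s => ?_
  have h : (EtpbcB.BCCalc.theta w U).hom ≫ bcComp g' f f₀ w₂ U = bcComp f' g f₀ w₁ U := by
    apply hom_bc_ext
    have h1 := bcComp_left_fst g' f f₀ w₂ U
    have h2 := bcComp_left_fst f' g f₀ w₁ U
    have h3 := EtpbcB.BCCalc.theta_hom_left_pr w U
    rw [h2]
    exact (Category.assoc _ _ _).trans ((congrArg (fun k => _ ≫ k) h1).trans h3)
  have h4 := th_unit_res g' f f₀ w₂ G U s (EtpbcB.BCCalc.theta w U).hom
  rw [map_comp_app, th_unit, pullSquare_eta]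
  refine h4.trans ?_
  rw [h]

theorem map_baseChange0_counit (f₀ : X' ⟶ Y) (w₁ : f' ≫ g = f₀) (w₂ : g' ≫ f = f₀) (K : EtCoh.Ab X) :
    (EtCoh.pull f').map (EtCoh.baseChange0 f g f' g' w K) ≫
      (EtCoh.pullPushAdj f').counit.app ((EtCoh.pull g').obj K) =
    th f' g f₀ w₁ ((EtCoh.push f).obj K) ≫ inv (th g' f f₀ w₂ ((EtCoh.push f).obj K)) ≫
      (EtCoh.pull g').map ((EtCoh.pullPushAdj f).counit.app K) := by
  have h1 := map_bc_counit (EtCoh.pullPushAdj g) (EtCoh.pullPushAdj g') (EtCoh.pullPushAdj f)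
    (EtCoh.pullPushAdj f') (EtpbcB.BCCalc.sq w) K
  rw [← pullSquare_th f g f' g' w f₀ w₁ w₂, Category.assoc, IsIso.hom_inv_id_assoc]
  exact h1

end Square

end Groth.Agent.EtBC.K1.SquareTh
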