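import Groth.Agent.Etcore.HQ
import Groth.Agent.Sga7.H764.EdgeHigh
import Groth.Agent.EtBC.K1.SquareTh

/-!
# The edge map `H^n(Z, j_* N) → H^n(Y, N)` in the language of `hp` and `res`

* `edge_hp_injective`: the map `x ↦ counit (hp j x)` is injective if `R^{b+1} j_* N = 0` for `b + 1 < n`;
* `map_eq_zero_of_acyclic`: in a commutative square `k' ≫ π = π' ≫ k` with base change isomorphism in degree zero for
  an acyclic sheaf `I` on `T'`, the image of `ξ ∈ H^n(T_R, k⁻¹ F)` in `H^n(T_R, k⁻¹ π_* I)` vanishes if `ξ` restricted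
  to `P` comes from `T'`.
-/

set_option autoImplicit false
universe u
open CategoryTheory CategoryTheory.Limits AlgebraicGeometry Opposite Abelian
open scoped Groth.Agent.Etcore.EtInst
open Groth.Agent.Etcore.EtInst Groth.Agent.Etcore.HpullCalc Groth.Agent.Etcore.PullCoh Groth.Agent.Etcore.HQ

namespace Groth.Agent.EtBC.K1.EdgeHp

attribute [local instance] pfl

open Groth.Agent.EtpbcB

section Edge

variable {Y Z : Scheme.{u}} (j : Y ⟶ Z) (N : EtCoh.Ab Y) (n : ℕ)

theorem bij_aux : Function.Bijective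
    (fun e : Ext ((EtCoh.pull j).obj (EtCoh.const Z ℤ)) N n =>
      (Ext.mk₀ (EtCore.pullConst j ℤ).inv).comp e (zero_add n)) := by
  have h1 : ∀ e : Ext ((EtCoh.pull j).obj (EtCoh.const Z ℤ)) N n,
      (Ext.mk₀ (EtCore.pullConst j ℤ).hom).comp
        ((Ext.mk₀ (EtCore.pullConst j ℤ).inv).comp e (zero_add n)) (zero_add n) = e := fun e => by
    rw [← Ext.comp_assoc_of_second_deg_zero, Ext.mk₀_comp_mk₀, Iso.hom_inv_id, Ext.mk₀_id_comp]
  have h2 : ∀ e : Ext (EtCoh.const Y ℤ) N n,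
      (Ext.mk₀ (EtCore.pullConst j ℤ).inv).comp
        ((Ext.mk₀ (EtCore.pullConst j ℤ).hom).comp e (zero_add n)) (zero_add n) = e := fun e => by
    rw [← Ext.comp_assoc_of_second_deg_zero, Ext.mk₀_comp_mk₀, Iso.inv_hom_id, Ext.mk₀_id_comp]
  constructor
  · intro a b hab
    rw [← h1 a, ← h1 b]
    exact congrArg (fun e => (Ext.mk₀ (EtCore.pullConst j ℤ).hom).comp e (zero_add n)) hab
  · intro e
    exact ⟨_, h2 e⟩

theorem HHmap_hp_eq (x : HH Z ((EtCoh.push j).obj N) n) :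
    HHmap ((EtCoh.pullPushAdj j).counit.app N) n (hp j ((EtCoh.push j).obj N) n x) =
      (Ext.mk₀ (EtCore.pullConst j ℤ).inv).comp
        (EdgeLemma.edge (EtCoh.pullPushAdj j) (EtCoh.const Z ℤ) N n x) (zero_add n) := by
  rw [EdgeLemma.edge_apply, hp_apply, HHmap_apply]
  exact Ext.comp_assoc_of_third_deg_zero _ _ _ _

theorem edge_hp_injective
    (h : ∀ p q, p + (q + 1) + 1 = n → IsZero ((EtCoh.Rpush j (q + 1)).obj N)) :
    Function.Injective (fun x : HH Z ((EtCoh.push j).obj N) n =>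
      HHmap ((EtCoh.pullPushAdj j).counit.app N) n (hp j ((EtCoh.push j).obj N) n x)) := by
  have h1 : Function.Injective (EdgeLemma.edge (EtCoh.pullPushAdj j) (EtCoh.const Z ℤ) N n) :=
    Groth.Agent.Sga7.H764.EdgeHigh.edge_injective (EtCoh.pullPushAdj j) (EtCoh.const Z ℤ) n N
      (fun p q hpq => subsingleton_of_forall_eq 0 fun x =>
        by rw [← Ext.comp_mk₀_id x, (h p q hpq).eq_of_src (𝟙 _) 0, Ext.mk₀_zero, Ext.comp_zero])
  intro a b hab
  simp only [HHmap_hp_eq] at hab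
  exact h1 ((bij_aux j N n).1 hab)

end Edge

section Square

variable {T T' TR P : Scheme.{u}} {k : TR ⟶ T} {π : T' ⟶ T} {π' : P ⟶ TR} {k' : P ⟶ T'}
  (w : k' ≫ π = π' ≫ k) {r : P ⟶ T} (hr₁ : π' ≫ k = r) (hr₂ : k' ≫ π = r)

/-- The edge map through the base change map. -/
theorem edge_eq (I : EtCoh.Ab T') (n : ℕ) (x : HH TR ((EtCoh.pull k).obj ((EtCoh.push π).obj I)) n) :
    HHmap ((EtCoh.pullPushAdj π').counit.app ((EtCoh.pull k').obj I)) n
        (hp π' _ n (HHmap (EtCoh.baseChange0 π k π' k' w I) n x)) =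
      HHmap (inv (th k' π r hr₂ ((EtCoh.push π).obj I)) ≫
        (EtCoh.pull k').map ((EtCoh.pullPushAdj π).counit.app I)) n
        (res ((EtCoh.push π).obj I) π' hr₁ n x) := by
  have h1 := SquareTh.map_baseChange0_counit π k π' k' w r hr₁ hr₂ I
  rw [hp_map, ← HHmap_comp, h1, res_apply, ← HHmap_comp]

theorem map_eq_zero_of_acyclic {F : EtCoh.Ab T} {I : EtCoh.Ab T'} (ι : F ⟶ (EtCoh.push π).obj I) (n : ℕ)
    (hI : Subsingleton (HH T' I n)) (hbc : IsIso (EtCoh.baseChange0 π k π' k' w I))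
    (hR : ∀ p q, p + (q + 1) + 1 = n → IsZero ((EtCoh.Rpush π' (q + 1)).obj ((EtCoh.pull k').obj I)))
    (ξ : HQ F k n) (η : HQ F π n) (h : res F k' hr₂ n η = res F π' hr₁ n ξ) :
    Etcore.HQ.map ι k n ξ = 0 := by
  have e1 := edge_eq w hr₁ hr₂ I n (Etcore.HQ.map ι k n ξ)
  have e2 : HHmap (inv (th k' π r hr₂ ((EtCoh.push π).obj I)) ≫
        (EtCoh.pull k').map ((EtCoh.pullPushAdj π).counit.app I)) n
        (res ((EtCoh.push π).obj I) π' hr₁ n (Etcore.HQ.map ι k n ξ)) = 0 := by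
    rw [res_map, ← h, ← res_map, res_apply, ← HHmap_comp, IsIso.hom_inv_id_assoc, ← hp_map,
      hI.elim (HHmap ((EtCoh.pullPushAdj π).counit.app I) n (Etcore.HQ.map ι π n η)) 0, map_zero]
  rw [e2] at e1
  have e3 := edge_hp_injective π' ((EtCoh.pull k').obj I) n hR
    (a₁ := HHmap (EtCoh.baseChange0 π k π' k' w I) n (Etcore.HQ.map ι k n ξ)) (a₂ := 0)
    (by simp only [map_zero]; exact e1)
  exact (HHmap_bijective (EtCoh.baseChange0 π k π' k' w I) n).1 (e3.trans (map_zero _).symm)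

end Square

end Groth.Agent.EtBC.K1.EdgeHp
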