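import Groth.Agent.EtBC.K1.SurjAtLim
import Groth.Agent.Ega43.ResSysSch
import Groth.Agent.Ega4fib.H121.ProConsBasic

/-!
# Spreading out `SurjAt` from the points

`exists_cover`: for `T` quasi-compact and `y : Y ⟶ T` qcqs, a class `ξ` on `Y` which comes from `Spec K` for every
point `Spec K ⟶ T` comes from `T'` for some surjective `T' ⟶ T` with `T'` affine (a finite disjoint union of affine
locally closed subschemes).
-/

set_option autoImplicit false
universe u
open CategoryTheory CategoryTheory.Limits AlgebraicGeometry Opposite Abelian Topology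
open scoped Groth.Agent.Etcore.EtInst
open Groth.Agent.Etcore.EtInst Groth.Agent.Etcore.HQ Groth.Agent.EtBC.K1.SurjAt
open Groth.Agent.Ega43.ResSys Groth.Agent.Ega43.ResSysSch

namespace Groth.Agent.EtBC.K1.FieldCover

attribute [local instance] pfl

section Topology

variable {B : Type u} [CommRing B]

theorem isOpen_loc {p : Ideal B} [p.IsPrime] (j : Idx p) :
    IsOpen[constructibleTopology (PrimeSpectrum B)] (loc j) :=
  (Groth.Agent.Ega4fib.H121.ProConsBasic.isIndConstructible_iff_isOpen).1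
    (Groth.Agent.Ega4fib.H121.ProConsBasic.isIndConstructible_of_isLocallyConstructible
      (isConstructible_loc j).isLocallyConstructible)

/-- Induction over the constructible topology of `Spec B`. -/
theorem loc_induction (Q : Set (PrimeSpectrum B) → Prop) (he : Q ∅) (hmono : ∀ ⦃s t⦄, s ⊆ t → Q t → Q s)
    (hunion : ∀ ⦃s t⦄, Q s → Q t → Q (s ∪ t))
    (hpt : ∀ p : PrimeSpectrum B, ∃ j : Idx p.asIdeal, Q (loc j)) : Q Set.univ := by
  have hc : @CompactSpace (PrimeSpectrum B) (constructibleTopology (PrimeSpectrum B)) :=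
    Groth.Agent.Ega4fib.H121.ProConsBasic.compactSpace_constructibleTopology
  have hc' := @isCompact_univ (PrimeSpectrum B) (constructibleTopology (PrimeSpectrum B)) hc
  refine @IsCompact.induction_on (PrimeSpectrum B) (constructibleTopology (PrimeSpectrum B)) Set.univ hc' Q
    he hmono hunion (fun p _ => ?_)
  obtain ⟨j, hj⟩ := hpt p
  refine ⟨loc j, ?_, hj⟩
  exact @mem_nhdsWithin_of_mem_nhds _ (constructibleTopology (PrimeSpectrum B)) _ _ _
    (@IsOpen.mem_nhds _ (constructibleTopology (PrimeSpectrum B)) _ _ (isOpen_loc j) (mem_loc _ j))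

theorem comap_closedPoint (q : PrimeSpectrum B) :
    PrimeSpectrum.comap (algebraMap B q.asIdeal.ResidueField)
      (IsLocalRing.closedPoint q.asIdeal.ResidueField) = q := by
  ext1
  refine Eq.trans ?_ q.asIdeal.ker_algebraMap_residueField
  exact congrArg (Ideal.comap (algebraMap B q.asIdeal.ResidueField)) IsLocalRing.maximalIdeal_eq_bot

/-- The image of a set of primes. -/
def img {T : Scheme.{u}} (f : Spec (.of B) ⟶ T) (W : Set (PrimeSpectrum B)) : Set T :=
  {t | ∃ q : PrimeSpectrum B, q ∈ W ∧ f q = t}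

end Topology

/-- Induction over locally closed subschemes. -/
theorem cover_induction {T : Scheme.{u}} [CompactSpace T] (Q : Set T → Prop) (he : Q ∅)
    (hmono : ∀ ⦃s t⦄, s ⊆ t → Q t → Q s) (hunion : ∀ ⦃s t⦄, Q s → Q t → Q (s ∪ t))
    (hpt : ∀ (U : T.affineOpens) (p : PrimeSpectrum Γ(T, U)), ∃ j : Idx p.asIdeal,
      Q (img (B := Γ(T, U)) U.2.fromSpec (loc j))) : Q Set.univ := by
  refine IsCompact.induction_on isCompact_univ he hmono hunion (fun x _ => ?_)
  obtain ⟨U, hU, hx, -⟩ := exists_isAffineOpen_mem_and_subset (x := x) (U := ⊤) trivial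
  refine ⟨(U : Set T), mem_nhdsWithin_of_mem_nhds (U.2.mem_nhds hx), ?_⟩
  have h1 := loc_induction (B := Γ(T, U)) (fun W => Q (img (B := Γ(T, U)) hU.fromSpec W))
    (hmono (fun t ht => by obtain ⟨q, hq, _⟩ := ht; exact hq.elim) he)
    (fun s t hst ht => hmono (fun a ha => by obtain ⟨q, hq, h⟩ := ha; exact ⟨q, hst hq, h⟩) ht)
    (fun s t hs ht => hmono (fun a ha => by
      obtain ⟨q, hq | hq, h⟩ := ha
      · exact Or.inl ⟨q, hq, h⟩
      · exact Or.inr ⟨q, hq, h⟩) (hunion hs ht)) (fun p => hpt ⟨U, hU⟩ p)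
  refine hmono (fun t ht => ?_) h1
  rw [← hU.range_fromSpec] at ht
  obtain ⟨q, hq⟩ := ht
  exact ⟨q, Set.mem_univ _, hq⟩

variable {X Y T : Scheme.{u}} {F : EtCoh.Ab X} {z : T ⟶ X} {y : Y ⟶ T} {n : ℕ}

theorem surjAt_loc [QuasiCompact y] [QuasiSeparated y] {ξ : HQ F (y ≫ z) n} {B : Type u} [CommRing B]
    (e : Spec (.of B) ⟶ T) (p : PrimeSpectrum B)
    (hp : SurjAt F z y n ξ (Spec.map (CommRingCat.ofHom (algebraMap B p.asIdeal.ResidueField)) ≫ e)) :
    ∃ j : Idx p.asIdeal, SurjAt F z y n ξ (toBase p.asIdeal (op j) ≫ e) := by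
  obtain ⟨j, -, hj⟩ := SurjAtLim.of_lim (diag p.asIdeal) (fun _ _ _ => inferInstance)
    (fun _ => inferInstance) (fun _ => inferInstance) (cone p.asIdeal p.asIdeal.ResidueField)
    (isLimit p.asIdeal p.asIdeal.ResidueField) (fun i => toBase p.asIdeal i ≫ e)
    (fun _ _ f => by rw [← Category.assoc, map_toBase]) _
    (fun i => by rw [← Category.assoc, cone_toBase]; rfl) hp (Classical.arbitrary _)
  exact ⟨j, hj⟩

theorem exists_cover [CompactSpace T] [QuasiCompact y] [QuasiSeparated y] {ξ : HQ F (y ≫ z) n}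
    (H : ∀ (K : Type u) [Field K] (τ : Spec (.of K) ⟶ T), SurjAt F z y n ξ τ) :
    ∃ (T' : Scheme.{u}) (π : T' ⟶ T), IsAffine T' ∧ Surjective π ∧ SurjAt F z y n ξ π := by
  have h := cover_induction (T := T) (fun W => ∃ (T' : Scheme.{u}) (π : T' ⟶ T), IsAffine T' ∧
      W ⊆ Set.range π ∧ SurjAt F z y n ξ π) ?_ ?_ ?_ ?_
  · obtain ⟨T', π, h1, h2, h3⟩ := h
    exact ⟨T', π, h1, ⟨fun t => h2 (Set.mem_univ t)⟩, h3⟩
  · refine ⟨∅, Scheme.emptyTo _, inferInstance, Set.empty_subset _, 0, ?_⟩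
    have : IsEmpty ↥(pullback y (Scheme.emptyTo T)) :=
      ⟨fun x => IsEmpty.false (pullback.snd y (Scheme.emptyTo T) x)⟩
    exact (HQDisj.subsingleton_HH _ n).elim _ _
  · rintro s t hst ⟨T', π, h1, h2, h3⟩
    exact ⟨T', π, h1, hst.trans h2, h3⟩
  · rintro s t ⟨T₁, π₁, h1, h2, h3⟩ ⟨T₂, π₂, k1, k2, k3⟩
    refine ⟨T₁ ⨿ T₂, coprod.desc π₁ π₂, inferInstance, ?_, ?_⟩
    · rintro x (hx | hx)
      · obtain ⟨a, rfl⟩ := h2 hx
        exact ⟨(coprod.inl : T₁ ⟶ T₁ ⨿ T₂) a, by rw [← Scheme.Hom.comp_apply, coprod.inl_desc]⟩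
      · obtain ⟨a, rfl⟩ := k2 hx
        exact ⟨(coprod.inr : T₂ ⟶ T₁ ⨿ T₂) a, by rw [← Scheme.Hom.comp_apply, coprod.inr_desc]⟩
    · refine SurjAt.of_disj coprod.inl coprod.inr (isCompl_range_inl_inr T₁ T₂).disjoint
        ((isCompl_range_inl_inr T₁ T₂).sup_eq_top) ?_ ?_
      · rw [coprod.inl_desc]; exact h3
      · rw [coprod.inr_desc]; exact k3
  · intro U p
    obtain ⟨j, hj⟩ := surjAt_loc (ξ := ξ) U.2.fromSpec p (H _ _)
    refine ⟨j, _, _, ?_, ?_, hj⟩
    · infer_instance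
    · rintro _ ⟨q, hq, rfl⟩
      obtain ⟨a, ha⟩ := exists_factor_residueField p j q hq
      refine ⟨a (IsLocalRing.closedPoint _), ?_⟩
      have h1 : toBase p.asIdeal (op j) (a (IsLocalRing.closedPoint _)) =
          Spec.map (CommRingCat.ofHom (algebraMap _ q.asIdeal.ResidueField)) (IsLocalRing.closedPoint _) := by
        rw [← ha]; rfl
      have h2 : Spec.map (CommRingCat.ofHom (algebraMap _ q.asIdeal.ResidueField))
          (IsLocalRing.closedPoint _) = q := by
        exact comap_closedPoint q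
      exact congrArg U.2.fromSpec (h1.trans h2)

end Groth.Agent.EtBC.K1.FieldCover
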