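import Groth.Agent.EtBC.K1.Descent
import Groth.Agent.EtBC.K1.FieldCover

/-!
# Surjectivity of `H^{m+1}(T, F) → H^{m+1}(T ×_S R, F)` from the case of fields

`surjective_hp_succ`.
-/

set_option autoImplicit false
universe u
open CategoryTheory CategoryTheory.Limits AlgebraicGeometry Opposite Abelian
open scoped Groth.Agent.Etcore.EtInst Groth.Agent.Sga4B.EtAbInst
open Groth.Agent.Etcore.EtInst Groth.Agent.Etcore.HpullCalc Groth.Agent.Etcore.PullCoh Groth.Agent.Etcore.HQ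
open K557.BcQ Groth.Agent.EtpbcB.NKillEt Groth.Agent.EtBC.K1.SurjAt

namespace Groth.Agent.EtBC.K1.FieldDev

attribute [local instance] pfl

theorem surjAt_of_hp {X Y T : Scheme.{u}} {F : EtCoh.Ab X} {z : T ⟶ X} {y : Y ⟶ T} {n : ℕ}
    (ξ : HQ F (y ≫ z) n) {T' P : Scheme.{u}} {τ : T' ⟶ T} {a : P ⟶ Y} {b : P ⟶ T'}
    (c : IsPullback a b y τ) (h : Function.Surjective (hp b ((EtCoh.pull (τ ≫ z)).obj F) n)) :
    SurjAt F z y n ξ τ := by
  have hb : b ≫ τ ≫ z = a ≫ y ≫ z := by rw [← Category.assoc, ← Category.assoc, c.w]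
  rw [surjAt_iff c rfl rfl hb]
  obtain ⟨w, hw⟩ := (HHmap_bijective (th b (τ ≫ z) (a ≫ y ≫ z) hb F) n).2 (res F a rfl n ξ)
  obtain ⟨η, rfl⟩ := h w
  exact ⟨η, by rw [res_apply, hw]⟩

variable {R₀ S₀ : Scheme.{u}} (y₀ : R₀ ⟶ S₀) [QuasiCompact y₀] [QuasiSeparated y₀] (N m : ℕ)

theorem surjective_hp_succ
    (Hbc : ∀ {T T' TR P : Scheme.{u}} (t : T ⟶ S₀) (π : T' ⟶ T) (b : TR ⟶ R₀) (k : TR ⟶ T)
      (π' : P ⟶ TR) (k' : P ⟶ T') (_ : IsPullback b k y₀ t) (c' : IsPullback k' π' π k)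
      [CompactSpace T] [QuasiSeparatedSpace T] [CompactSpace T'] [QuasiSeparatedSpace T']
      (G : EtCoh.Ab T'), EtCoh.KilledBy N G → ∀ a ≤ m, IsIso (bq c'.w a G))
    (Hsur : ∀ {T TR : Scheme.{u}} (t : T ⟶ S₀) (b : TR ⟶ R₀) (k : TR ⟶ T)
      (_ : IsPullback b k y₀ t) [CompactSpace T] [QuasiSeparatedSpace T]
      (G : EtCoh.Ab T), EtCoh.KilledBy N G → Function.Surjective (hp k G m))
    (Hfld : ∀ (K : Type u) [Field K] {TR : Scheme.{u}} (t : Spec (.of K) ⟶ S₀) (b : TR ⟶ R₀)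
      (k : TR ⟶ Spec (.of K)) (_ : IsPullback b k y₀ t)
      (G : EtCoh.Ab (Spec (.of K))), EtCoh.KilledBy N G → Function.Surjective (hp k G (m + 1)))
    {T TR : Scheme.{u}} (t : T ⟶ S₀) (b : TR ⟶ R₀) (k : TR ⟶ T)
    (c : IsPullback b k y₀ t) [CompactSpace T] [QuasiSeparatedSpace T]
    (F : EtCoh.Ab T) (hF : EtCoh.KilledBy N F) : Function.Surjective (hp k F (m + 1)) := by
  intro ξ
  have hk1 : QuasiCompact k := MorphismProperty.of_isPullback c ‹_›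
  have hk2 : QuasiSeparated k := MorphismProperty.of_isPullback c ‹_›
  have e0 : 𝟙 TR ≫ k = k ≫ 𝟙 T := by rw [Category.id_comp, Category.comp_id]
  let ξ' : HQ F (k ≫ 𝟙 T) (m + 1) := res F (𝟙 TR) e0 (m + 1) ξ
  obtain ⟨T', π, hT', hπ, hS⟩ := FieldCover.exists_cover (F := F) (z := 𝟙 T) (y := k) (ξ := ξ')
    (fun K _ τ => by
      have c1 := IsPullback.of_hasPullback k τ
      exact surjAt_of_hp ξ' c1 (Hfld K (τ ≫ t) (pullback.fst k τ ≫ b) (pullback.snd k τ)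
        (c1.flip.paste_vert c.flip).flip _ (killedBy_pull _ hF)))
  have c1 := IsPullback.of_hasPullback k π
  have hr₁ : pullback.fst k π ≫ k = pullback.snd k π ≫ π := c1.w
  rw [surjAt_iff c1 (r := pullback.fst k π ≫ k) (by rw [Category.comp_id]) (t := π)
    (Category.comp_id _) hr₁.symm] at hS
  obtain ⟨η, hη⟩ := hS
  have h2 : res F (pullback.snd k π) hr₁.symm (m + 1) η =
      res F (q' := pullback.fst k π ≫ k) (pullback.fst k π) rfl (m + 1) ξ := by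
    rw [hη]
    exact res_res F (𝟙 TR) e0 (pullback.fst k π) _ _ (Category.comp_id _) rfl (m + 1) ξ
  exact Descent.exists_hp_eq c1.flip.w
    (fun G hG a ha => Hbc t π b k (pullback.fst k π) (pullback.snd k π) c c1.flip G hG a ha)
    (fun G hG => Hsur t b k c G hG) hF rfl hr₁.symm ξ η h2

end Groth.Agent.EtBC.K1.FieldDev
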