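import Groth.Agent.EtBC.K1.LocalBc

/-!
# `BC(f, n, m)` and base change for spectra of fields imply `BC(f, n, m + 1)`

`isIso_bq_of_fields`: let `f : X ⟶ S`, and assume that for all base changes `f₁ : X₁ ⟶ S₁` of `f` the base change maps of
qcqs `g₁ : T₁ ⟶ S₁` along `f₁` for sheaves killed by `n` are isomorphisms in degrees `≤ m`, and in degree `m + 1` if `T₁` is
the spectrum of a field.  Then they are isomorphisms in degree `m + 1`.
-/

set_option autoImplicit false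
universe u
open CategoryTheory CategoryTheory.Limits AlgebraicGeometry Opposite Abelian IsLocalRing
open scoped Groth.Agent.Etcore.EtInst Groth.Agent.Sga4B.EtAbInst
open Groth.Agent.Etcore.EtInst Groth.Agent.Etcore.HpullCalc
open K557.BcQ K557.WeakEt Groth.Agent.Etrest.StrictLoc

namespace Groth.Agent.EtBC.K1.FieldMain

open Groth.Agent.Etcore.HQ in
attribute [local instance] pfl

variable {X S : Scheme.{u}} (f : X ⟶ S) (n m : ℕ)
    (hBC : ∀ {S₁ X₁ T₁ Y₁ : Scheme.{u}} (p₁ : S₁ ⟶ S) (f₁ : X₁ ⟶ S₁) (r₁ : X₁ ⟶ X),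
        IsPullback r₁ f₁ f p₁ →
        ∀ (g₁ : T₁ ⟶ S₁) (h₁ : Y₁ ⟶ X₁) (e₁ : Y₁ ⟶ T₁) (c₁ : IsPullback e₁ h₁ g₁ f₁)
          [QuasiCompact g₁] [QuasiSeparated g₁] (G₁ : EtCoh.Ab T₁), EtCoh.KilledBy n G₁ →
          ∀ q₁ : ℕ, q₁ ≤ m → IsIso (bq c₁.w q₁ G₁))
    (hfld : ∀ {S' X' Y : Scheme.{u}} (p : S' ⟶ S) (f' : X' ⟶ S') (r : X' ⟶ X),
        IsPullback r f' f p →
        ∀ (K : Type u) [Field K] (g : Spec (.of K) ⟶ S') (h : Y ⟶ X') (e : Y ⟶ Spec (.of K))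
          (c : IsPullback e h g f') (G : EtCoh.Ab (Spec (.of K))), EtCoh.KilledBy n G →
          IsIso (bq c.w (m + 1) G))

section Local

variable {A C : Type u} [CommRing A] [CommRing C] [IsLocalRing A] [IsLocalRing C]
  (hA : IsStrictLoc (𝟙 (Spec (.of A)))) {X' : Scheme.{u}} {f' : X' ⟶ Spec (.of A)}
  {τ : Spec (.of C) ⟶ X'} (hτ : IsStrictLoc τ) (β : A →+* C) [IsLocalHom β] (hβ : spm β = τ ≫ f')
  (p : Spec (.of A) ⟶ S) (r : X' ⟶ X) (cX : IsPullback r f' f p)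

include hBC hA hτ hβ cX in
theorem bijective_hp_low {T TR : Scheme.{u}} (t : T ⟶ Spec (.of A)) (b : TR ⟶ Spec (.of C)) (k : TR ⟶ T)
    (c : IsPullback b k (spm β) t) [CompactSpace T] [QuasiSeparatedSpace T]
    (G : EtCoh.Ab T) (hG : EtCoh.KilledBy n G) (q : ℕ) (hq : q ≤ m) : Function.Bijective (hp k G q) := by
  have i1 : QuasiCompact t := inferInstance
  have i2 : QuasiSeparated t := inferInstance
  have c₁ := IsPullback.of_hasPullback t f'
  exact LocalBc.bijective_hp_of_bq hA hτ β hβ c₁ c q G (hBC p f' r cX t _ _ c₁ G hG q hq)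

include hfld hA hτ hβ cX in
theorem bijective_hp_field (K : Type u) [Field K] {TR : Scheme.{u}} (t : Spec (.of K) ⟶ Spec (.of A))
    (b : TR ⟶ Spec (.of C)) (k : TR ⟶ Spec (.of K)) (c : IsPullback b k (spm β) t)
    (G : EtCoh.Ab (Spec (.of K))) (hG : EtCoh.KilledBy n G) : Function.Bijective (hp k G (m + 1)) := by
  have c₁ := IsPullback.of_hasPullback t f'
  exact LocalBc.bijective_hp_of_bq hA hτ β hβ c₁ c (m + 1) G (hfld p f' r cX K t _ _ c₁ G hG)

include hBC hτ hβ cX in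
theorem isIso_bq_low {T T' TR P : Scheme.{u}} (t : T ⟶ Spec (.of A)) (π : T' ⟶ T)
    (b : TR ⟶ Spec (.of C)) (k : TR ⟶ T) (π' : P ⟶ TR) (k' : P ⟶ T') (c : IsPullback b k (spm β) t)
    (c' : IsPullback k' π' π k) [CompactSpace T] [QuasiSeparatedSpace T] [CompactSpace T']
    [QuasiSeparatedSpace T'] (G : EtCoh.Ab T') (hG : EtCoh.KilledBy n G) (a : ℕ) (ha : a ≤ m) :
    IsIso (bq c'.w a G) := by
  have i1 : QuasiCompact π := inferInstance
  have i2 : QuasiSeparated π := inferInstance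
  have cT := IsPullback.of_hasPullback f' t
  have w1 : (b ≫ τ) ≫ f' = k ≫ t := by rw [Category.assoc, ← hβ, c.w]
  let ρ : TR ⟶ pullback f' t := pullback.lift (b ≫ τ) k w1
  have hρ1 : ρ ≫ pullback.fst f' t = b ≫ τ := pullback.lift_fst _ _ _
  have hρ2 : ρ ≫ pullback.snd f' t = k := pullback.lift_snd _ _ _
  have cρ : IsPullback b ρ τ (pullback.fst f' t) := by
    refine IsPullback.of_bot (h₃₁ := t) (v₂₁ := pullback.snd f' t) (v₂₂ := f') ?_ hρ1.symm cT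
    rw [hρ2, ← hβ]
    exact c
  have hwτ : WeaklyEtale τ := Groth.Agent.Sga1.UlaSL.weaklyEtale_of_isStrictLoc hτ
  have hwρ : WeaklyEtale ρ := MorphismProperty.of_isPullback cρ hwτ
  have c₁ := IsPullback.of_hasPullback π (pullback.snd f' t)
  have h1 := hBC (t ≫ p) (pullback.snd f' t) (pullback.fst f' t ≫ r)
    (cT.flip.paste_vert cX.flip).flip π _ _ c₁ G hG a ha
  exact LocalBc.isIso_bq_of_right c₁ (h := ρ) hρ2 c' a G h1

include hBC hfld hA hτ hβ cX in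
theorem bijective_hp_succ {T TR : Scheme.{u}} (t : T ⟶ Spec (.of A)) (b : TR ⟶ Spec (.of C)) (k : TR ⟶ T)
    (c : IsPullback b k (spm β) t) [CompactSpace T] [QuasiSeparatedSpace T]
    (G : EtCoh.Ab T) (hG : EtCoh.KilledBy n G) : Function.Bijective (hp k G (m + 1)) := by
  refine ⟨LocalBc.injective_hp_succ k (fun F hF =>
    bijective_hp_low f n m hBC hA hτ β hβ p r cX t b k c F hF m le_rfl) hG, ?_⟩
  refine FieldDev.surjective_hp_succ (spm β) n m ?_ ?_ ?_ t b k c G hG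
  · intro T T' TR P t π b k π' k' c c' _ _ _ _ G hG a ha
    exact isIso_bq_low f n m hBC hτ β hβ p r cX t π b k π' k' c c' G hG a ha
  · intro T TR t b k c _ _ G hG
    exact (bijective_hp_low f n m hBC hA hτ β hβ p r cX t b k c G hG m le_rfl).2
  · intro K _ TR t b k c G hG
    exact (bijective_hp_field f n m hfld hA hτ β hβ p r cX K t b k c G hG).2

end Local

include hBC hfld in
theorem isIso_bq_of_fields {S₂ X₂ T₂ Y₂ : Scheme.{u}} (p₂ : S₂ ⟶ S) (f₂ : X₂ ⟶ S₂) (r₂ : X₂ ⟶ X)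
    (cX : IsPullback r₂ f₂ f p₂) (g₂ : T₂ ⟶ S₂) (h₂ : Y₂ ⟶ X₂) (e₂ : Y₂ ⟶ T₂) (c₂ : IsPullback e₂ h₂ g₂ f₂)
    [QuasiCompact g₂] [QuasiSeparated g₂] (G₂ : EtCoh.Ab T₂) (hG : EtCoh.KilledBy n G₂) :
    IsIso (bq c₂.w (m + 1) G₂) := by
  have i1 : QuasiCompact h₂ := MorphismProperty.of_isPullback c₂ ‹_›
  have i2 : QuasiSeparated h₂ := MorphismProperty.of_isPullback c₂ ‹_›
  refine isIso_bq_of_forall c₂.w (m + 1) G₂ (fun x => ?_)
  obtain ⟨A, _, _, σ, hσ, hσx⟩ := Groth.Agent.Sga1.UlaSL.exists_isStrictLoc S₂ (f₂ x)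
  obtain ⟨C, _, _, τ, hτ, hτx⟩ := Groth.Agent.Sga1.UlaSL.exists_isStrictLoc X₂ x
  have j1 := hσ.henselian
  have j2 := hσ.sepClosed
  have j3 := hτ.henselian
  have j4 := hτ.sepClosed
  obtain ⟨β, hβ, hβ'⟩ := Groth.Agent.Etrest.VCBaseChange.exists_map hσ (τ ≫ f₂)
    (by rw [Scheme.Hom.comp_apply, hτx, hσx])
  have hwσ : WeaklyEtale σ := Groth.Agent.Sga1.UlaSL.weaklyEtale_of_isStrictLoc hσ
  have cX' := IsPullback.of_hasPullback f₂ σ
  have hw : WeaklyEtale (pullback.fst f₂ σ) := MorphismProperty.of_isPullback cX'.flip hwσ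
  let τ' : Spec (.of C) ⟶ pullback f₂ σ := pullback.lift τ (spm β) hβ'.symm
  have hτ1 : τ' ≫ pullback.fst f₂ σ = τ := pullback.lift_fst _ _ _
  have hτ2 : τ' ≫ pullback.snd f₂ σ = spm β := pullback.lift_snd _ _ _
  have hτ' : IsStrictLoc τ' := IsStrictLoc.of_comp (pullback.fst f₂ σ) (by rw [hτ1]; exact hτ)
  have hA : IsStrictLoc (𝟙 (Spec (.of A))) := Groth.Agent.Sga1.UlaSL.isStrictLoc_id A
  have cP := IsPullback.of_hasPullback g₂ σ
  have k1 : QuasiCompact (pullback.snd g₂ σ) := inferInstance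
  have k2 : QuasiSeparated (pullback.snd g₂ σ) := inferInstance
  have k3 : CompactSpace ↥(pullback g₂ σ) :=
    QuasiCompact.compactSpace_of_compactSpace (pullback.snd g₂ σ)
  have k4 : QuasiSeparatedSpace ↥(pullback g₂ σ) :=
    quasiSeparatedSpace_of_quasiSeparated (pullback.snd g₂ σ)
  have cP' := IsPullback.of_hasPullback h₂ τ
  have w3 : (pullback.fst h₂ τ ≫ e₂) ≫ g₂ = (pullback.snd h₂ τ ≫ spm β) ≫ σ := by
    rw [Category.assoc, c₂.w, ← Category.assoc, cP'.w, Category.assoc, ← hβ', Category.assoc]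
  let k : pullback h₂ τ ⟶ pullback g₂ σ := pullback.lift (pullback.fst h₂ τ ≫ e₂)
    (pullback.snd h₂ τ ≫ spm β) w3
  have hk1 : k ≫ pullback.fst g₂ σ = pullback.fst h₂ τ ≫ e₂ := pullback.lift_fst _ _ _
  have hk2 : k ≫ pullback.snd g₂ σ = pullback.snd h₂ τ ≫ spm β := pullback.lift_snd _ _ _
  refine ⟨A, C, inferInstance, inferInstance, inferInstance, inferInstance, σ, τ, β, pullback g₂ σ,
    pullback h₂ τ, pullback.fst g₂ σ, pullback.snd g₂ σ, pullback.fst h₂ τ, pullback.snd h₂ τ, k, hσ, hτ,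
    hβ, hβ', hτx, cP, cP', hk1, hk2, ?_⟩
  have cT : IsPullback (pullback.snd h₂ τ) k (spm β) (pullback.snd g₂ σ) := by
    refine (IsPullback.of_right ?_ hk2 cP).flip
    rw [hk1, hβ']
    exact cP'.paste_horiz c₂
  exact bijective_hp_succ f n m hBC hfld hA hτ' β hτ2.symm (σ ≫ p₂) (pullback.fst f₂ σ ≫ r₂)
    (cX'.flip.paste_vert cX.flip).flip (pullback.snd g₂ σ) (pullback.snd h₂ τ) k cT
    _ (Groth.Agent.EtpbcB.NKillEt.killedBy_pull _ hG)

end Groth.Agent.EtBC.K1.FieldMain
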