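import Mathlib.CategoryTheory.Triangulated.HomologicalFunctor
import Mathlib.CategoryTheory.Triangulated.TStructure.TruncLTGE
import Mathlib.Algebra.Category.Grp.Abelian
import Mathlib.Algebra.Homology.ShortComplex.Ab

/-!
# Filtered five lemma for homological functors and way-out

`Sys C I`: homological functors `A i`, `i : I`, and `B` on a pretriangulated category with values in abelian groups and
compatible transformations `t : A i ⟶ A j`, `s : A i ⟶ B`.  `P S K`: for every shift of `K` the map from the `A i` to `B` is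
"the colimit map": surjective, and elements dying in `B` die at some stage.

* `P.of_dist`, `P.of_dist₁`, `P.of_dist₃`: two out of three;
* `P.of_heart`: if `A i`, `B` vanish on `t.ge 1` and `P` holds on the heart then `P` holds on all `K ≥ a`.
-/

set_option autoImplicit false

universe w v u x

open CategoryTheory CategoryTheory.Limits CategoryTheory.Pretriangulated CategoryTheory.Triangulated

namespace K1.Five

/-- A directed system of homological functors over another one. -/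
structure Sys (C : Type u) [Category.{v} C] [Preadditive C] [HasZeroObject C] [HasShift C ℤ]
    [∀ n : ℤ, (shiftFunctor C n).Additive] [Pretriangulated C] (I : Type x) [Preorder I] where
  A : I → C ⥤ AddCommGrpCat.{w}
  B : C ⥤ AddCommGrpCat.{w}
  t : ∀ {i j : I}, i ≤ j → (A i ⟶ A j)
  s : ∀ i : I, A i ⟶ B
  tt : ∀ {i j k : I} (h₁ : i ≤ j) (h₂ : j ≤ k), t h₁ ≫ t h₂ = t (h₁.trans h₂)
  ts : ∀ {i j : I} (h : i ≤ j), t h ≫ s j = s i
  hA : ∀ i, (A i).IsHomological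
  hB : B.IsHomological

variable {C : Type u} [Category.{v} C] [Preadditive C] [HasZeroObject C] [HasShift C ℤ]
  [∀ n : ℤ, (shiftFunctor C n).Additive] [Pretriangulated C] {I : Type x} [Preorder I]
  (S : Sys.{w} C I)

attribute [local instance] Sys.hA Sys.hB

/-- Every element of the limit group comes from a stage. -/
def Surj (X : C) : Prop := ∀ x : S.B.obj X, ∃ (i : I) (y : (S.A i).obj X), (S.s i).app X y = x

/-- An element dying in the limit group dies at a stage. -/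
def Inj (X : C) : Prop := ∀ (i : I) (y : (S.A i).obj X), (S.s i).app X y = 0 →
  ∃ (j : I) (h : i ≤ j), (S.t h).app X y = 0

/-- `Surj` and `Inj` for all shifts. -/
def P (K : C) : Prop := ∀ n : ℤ, Surj S (K⟦n⟧) ∧ Inj S (K⟦n⟧)

variable {S}

theorem tt_apply {i j k : I} (h₁ : i ≤ j) (h₂ : j ≤ k) {X : C} (y : (S.A i).obj X) :
    (S.t h₂).app X ((S.t h₁).app X y) = (S.t (h₁.trans h₂)).app X y := by
  rw [← S.tt h₁ h₂]
  rfl

theorem ts_apply {i j : I} (h : i ≤ j) {X : C} (y : (S.A i).obj X) :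
    (S.s j).app X ((S.t h).app X y) = (S.s i).app X y := by
  rw [← S.ts h]
  rfl

theorem t_nat {i j : I} (h : i ≤ j) {X Y : C} (f : X ⟶ Y) (y : (S.A i).obj X) :
    (S.t h).app Y ((S.A i).map f y) = (S.A j).map f ((S.t h).app X y) :=
  ConcreteCategory.congr_hom ((S.t h).naturality f) y

theorem s_nat (i : I) {X Y : C} (f : X ⟶ Y) (y : (S.A i).obj X) :
    (S.s i).app Y ((S.A i).map f y) = S.B.map f ((S.s i).app X y) :=
  ConcreteCategory.congr_hom ((S.s i).naturality f) y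

omit [Preadditive C] [HasShift C ℤ] [HasZeroObject C] [∀ n : ℤ, (shiftFunctor C n).Additive] [Pretriangulated C] in
theorem map_map {F : C ⥤ AddCommGrpCat.{w}} {X Y Z : C} (f : X ⟶ Y) (g : Y ⟶ Z) (y : F.obj X) :
    F.map g (F.map f y) = F.map (f ≫ g) y := by
  rw [F.map_comp]
  rfl

theorem map_zero' {F : C ⥤ AddCommGrpCat.{w}} [F.IsHomological] {X Y : C} (y : F.obj X) :
    F.map (0 : X ⟶ Y) y = 0 := by
  rw [F.map_zero]
  rfl

theorem Surj.of_iso {X Y : C} (e : X ≅ Y) (h : Surj S X) : Surj S Y := by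
  intro x
  obtain ⟨i, y, hy⟩ := h (S.B.map e.inv x)
  refine ⟨i, (S.A i).map e.hom y, ?_⟩
  rw [s_nat, hy, map_map, e.inv_hom_id, S.B.map_id]
  rfl

theorem Inj.of_iso {X Y : C} (e : X ≅ Y) (h : Inj S X) : Inj S Y := by
  intro i y hy
  obtain ⟨j, hj, h1⟩ := h i ((S.A i).map e.inv y) (by rw [s_nat, hy, map_zero])
  refine ⟨j, hj, ?_⟩
  have h2 := congrArg ((S.A j).map e.hom) h1
  rw [← t_nat, map_map, e.inv_hom_id, (S.A i).map_id, map_zero] at h2
  exact h2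

theorem P.of_iso {X Y : C} (e : X ≅ Y) (h : P S X) : P S Y := fun n =>
  ⟨(h n).1.of_iso ((shiftFunctor C n).mapIso e), (h n).2.of_iso ((shiftFunctor C n).mapIso e)⟩

theorem P.shift {X : C} (h : P S X) (m : ℤ) : P S (X⟦m⟧) := fun n =>
  ⟨(h (m + n)).1.of_iso ((shiftFunctorAdd C m n).app X),
    (h (m + n)).2.of_iso ((shiftFunctorAdd C m n).app X)⟩

theorem P.of_shift {X : C} (m : ℤ) (h : P S (X⟦m⟧)) : P S X :=
  (h.shift (-m)).of_iso ((shiftFunctorCompIsoId C m (-m) (by simp)).app X)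

/-- Exactness of a homological functor at the middle, elementwise. -/
theorem exact_apply (F : C ⥤ AddCommGrpCat.{w}) [F.IsHomological] (T : Triangle C)
    (hT : T ∈ distTriang C) (y : F.obj T.obj₂) (hy : F.map T.mor₂ y = 0) :
    ∃ z : F.obj T.obj₁, F.map T.mor₁ z = y := by
  have h := F.map_distinguished_exact T hT
  rw [ShortComplex.ab_exact_iff] at h
  exact h y hy

variable [IsDirectedOrder I]

theorem surj_core {X₁ X₂ X₃ X₄ : C} (f : X₁ ⟶ X₂) (g : X₂ ⟶ X₃) (h : X₃ ⟶ X₄) (w : g ≫ h = 0)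
    (eB : ∀ x : S.B.obj X₂, S.B.map g x = 0 → ∃ w : S.B.obj X₁, S.B.map f w = x)
    (eA : ∀ (i : I) (y : (S.A i).obj X₃), (S.A i).map h y = 0 →
      ∃ z : (S.A i).obj X₂, (S.A i).map g z = y)
    (h₁ : Surj S X₁) (h₃ : Surj S X₃) (h₄ : Inj S X₄) : Surj S X₂ := by
  intro x
  obtain ⟨i, y, hy⟩ := h₃ (S.B.map g x)
  have h4 : (S.s i).app _ ((S.A i).map h y) = 0 := by
    rw [s_nat, hy, map_map, w, map_zero']
  obtain ⟨j, hj, h5⟩ := h₄ i _ h4
  rw [t_nat] at h5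
  obtain ⟨z, hz⟩ := eA j _ h5
  have h6 : S.B.map g (x - (S.s j).app _ z) = 0 := by
    rw [map_sub, ← s_nat, hz, ts_apply, hy, sub_self]
  obtain ⟨w, hw⟩ := eB _ h6
  obtain ⟨k, v, hv⟩ := h₁ w
  obtain ⟨l, hl1, hl2⟩ := directed_of (· ≤ ·) j k
  refine ⟨l, (S.t hl1).app _ z + (S.A l).map f ((S.t hl2).app _ v), ?_⟩
  rw [map_add, ts_apply, s_nat, ts_apply, hv, hw]
  abel

theorem inj_core {X₀ X₁ X₂ X₃ : C} (e : X₀ ⟶ X₁) (f : X₁ ⟶ X₂) (g : X₂ ⟶ X₃) (w : e ≫ f = 0)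
    (eB : ∀ x : S.B.obj X₁, S.B.map f x = 0 → ∃ w : S.B.obj X₀, S.B.map e w = x)
    (eA : ∀ (i : I) (y : (S.A i).obj X₂), (S.A i).map g y = 0 →
      ∃ z : (S.A i).obj X₁, (S.A i).map f z = y)
    (h₀ : Surj S X₀) (h₁ : Inj S X₁) (h₃ : Inj S X₃) : Inj S X₂ := by
  intro i y hy
  have h4 : (S.s i).app _ ((S.A i).map g y) = 0 := by
    rw [s_nat, hy, map_zero]
  obtain ⟨j, hj, h5⟩ := h₃ i _ h4
  rw [t_nat] at h5
  obtain ⟨z, hz⟩ := eA j _ h5
  have h6 : S.B.map f ((S.s j).app _ z) = 0 := by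
    rw [← s_nat, hz, ts_apply, hy]
  obtain ⟨x, hx⟩ := eB _ h6
  obtain ⟨k, v, hv⟩ := h₀ x
  obtain ⟨l, hl1, hl2⟩ := directed_of (· ≤ ·) j k
  have h7 : (S.s l).app _ ((S.t hl1).app _ z - (S.A l).map e ((S.t hl2).app _ v)) = 0 := by
    rw [map_sub, ts_apply, s_nat, ts_apply, hv, hx, sub_self]
  obtain ⟨m, hm, h9⟩ := h₁ l _ h7
  refine ⟨m, (hj.trans hl1).trans hm, ?_⟩
  rw [← tt_apply (hj.trans hl1) hm, ← tt_apply hj hl1, ← hz, t_nat, t_nat]
  rw [map_sub, sub_eq_zero] at h9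
  rw [h9, t_nat, map_map, w, map_zero']

theorem Surj.of_dist (T : Triangle C) (hT : T ∈ distTriang C) (h₁ : Surj S T.obj₁)
    (h₃ : Surj S T.obj₃) (h₁' : Inj S (T.obj₁⟦(1 : ℤ)⟧)) : Surj S T.obj₂ :=
  surj_core T.mor₁ T.mor₂ T.mor₃ (comp_distTriang_mor_zero₂₃ T hT)
    (fun x hx => exact_apply S.B T hT x hx)
    (fun i y hy => exact_apply (S.A i) T.rotate (rot_of_distTriang T hT) y hy) h₁ h₃ h₁'

theorem Inj.of_dist (T : Triangle C) (hT : T ∈ distTriang C) (h₁ : Inj S T.obj₁)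
    (h₃ : Inj S T.obj₃) (h₃' : Surj S (T.obj₃⟦(-1 : ℤ)⟧)) : Inj S T.obj₂ :=
  inj_core T.invRotate.mor₁ T.mor₁ T.mor₂
    (comp_distTriang_mor_zero₁₂ T.invRotate (inv_rot_of_distTriang T hT))
    (fun x hx => exact_apply S.B T.invRotate (inv_rot_of_distTriang T hT) x hx)
    (fun i y hy => exact_apply (S.A i) T hT y hy) h₃' h₁ h₃

/-- The statement in one degree. -/
theorem both_of_dist (T : Triangle C) (hT : T ∈ distTriang C) (n : ℤ)
    (h₁ : Surj S (T.obj₁⟦n⟧) ∧ Inj S (T.obj₁⟦n⟧)) (h₃ : Surj S (T.obj₃⟦n⟧) ∧ Inj S (T.obj₃⟦n⟧))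
    (h₁' : Inj S (T.obj₁⟦n + 1⟧)) (h₃' : Surj S (T.obj₃⟦n - 1⟧)) :
    Surj S (T.obj₂⟦n⟧) ∧ Inj S (T.obj₂⟦n⟧) := by
  have hT' := Triangle.shift_distinguished T hT n
  refine ⟨Surj.of_dist ((Triangle.shiftFunctor C n).obj T) hT' h₁.1 h₃.1 ?_,
    Inj.of_dist ((Triangle.shiftFunctor C n).obj T) hT' h₁.2 h₃.2 ?_⟩
  · exact h₁'.of_iso ((shiftFunctorAdd C n 1).app T.obj₁)
  · exact h₃'.of_iso ((shiftFunctorAdd C n (-1)).app T.obj₃)

theorem P.of_dist (T : Triangle C) (hT : T ∈ distTriang C) (h₁ : P S T.obj₁) (h₃ : P S T.obj₃) :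
    P S T.obj₂ := fun n =>
  both_of_dist T hT n (h₁ n) (h₃ n) (h₁ (n + 1)).2 (h₃ (n - 1)).1

theorem P.of_dist₁ (T : Triangle C) (hT : T ∈ distTriang C) (h₂ : P S T.obj₂) (h₃ : P S T.obj₃) :
    P S T.obj₁ :=
  P.of_dist T.invRotate (inv_rot_of_distTriang T hT) (h₃.shift (-1)) h₂

theorem P.of_dist₃ (T : Triangle C) (hT : T ∈ distTriang C) (h₁ : P S T.obj₁) (h₂ : P S T.obj₂) :
    P S T.obj₃ :=
  P.of_dist T.rotate (rot_of_distTriang T hT) h₂ (h₁.shift 1)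

section Heart

variable [Nonempty I] (t : TStructure C)

omit [IsDirectedOrder I] in
theorem both_of_vanish (X : C) (hB : ∀ x : S.B.obj X, x = 0)
    (hA : ∀ (i : I) (y : (S.A i).obj X), y = 0) : Surj S X ∧ Inj S X := by
  refine ⟨fun x => ?_, fun i y _ => ⟨i, le_rfl, ?_⟩⟩
  · refine ⟨Classical.arbitrary I, 0, ?_⟩
    rw [hB x, map_zero]
  · rw [hA i y, map_zero]

omit [Nonempty I] in
/-- From the heart to bounded objects. -/
theorem P.of_bounded (hh : ∀ X : C, t.IsLE X 0 → t.IsGE X 0 → P S X) (m : ℕ) :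
    ∀ (a : ℤ) (X : C), t.IsGE X a → t.IsLE X (a + m) → P S X := by
  induction m with
  | zero =>
    intro a X h1 h2
    have h2' : t.IsLE X a := by simpa using h2
    exact P.of_shift a (hh _ (t.isLE_shift X a a 0) (t.isGE_shift X a a 0))
  | succ m ih =>
    intro a X h1 h2
    obtain ⟨X', X'', h', h'', f, g, h, hT⟩ := t.exists_triangle X a (a + 1) rfl
    have i1 : t.IsLE X' a := ⟨h'⟩
    have i2 : t.IsGE X'' (a + 1) := ⟨h''⟩
    have i5 : t.IsGE (X''⟦(-1 : ℤ)⟧) (a + 2) := t.isGE_shift X'' (a + 1) (-1) (a + 2)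
    have i3 : t.IsGE X' a :=
      t.isGE₂ _ (inv_rot_of_distTriang _ hT) a (t.isGE_of_ge (X''⟦(-1 : ℤ)⟧) a (a + 2) (by lia)) h1
    have i4 : t.IsLE X'' (a + 1 + m) := by
      have h3 : t.IsLE (X'⟦(1 : ℤ)⟧) (a - 1) := t.isLE_shift X' a 1 (a - 1)
      exact t.isLE₂ _ (rot_of_distTriang _ hT) (a + 1 + m)
        (by
          have : t.IsLE X (a + 1 + m) := by
            have e : (a + 1 + m : ℤ) = a + ((m + 1 : ℕ) : ℤ) := by push_cast; ring
            rw [e]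
            exact h2
          exact this)
        (t.isLE_of_le (X'⟦(1 : ℤ)⟧) (a - 1) (a + 1 + m) (by lia))
    exact P.of_dist _ hT (ih a X' i3 (t.isLE_of_le X' a (a + m) (by lia))) (ih (a + 1) X'' i2 i4)

/-- **Way-out**: from the heart to objects bounded below. -/
theorem P.of_heart (hh : ∀ X : C, t.IsLE X 0 → t.IsGE X 0 → P S X)
    (hv : ∀ X : C, t.IsGE X 1 → (∀ x : S.B.obj X, x = 0) ∧ ∀ (i : I) (y : (S.A i).obj X), y = 0)
    (a : ℤ) (K : C) (hK : t.IsGE K a) : P S K := by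
  intro n
  obtain ⟨N, hN1, hN2⟩ : ∃ N : ℤ, n ≤ N ∧ a ≤ N := ⟨max n a, le_max_left _ _, le_max_right _ _⟩
  obtain ⟨X', X'', h', h'', f, g, h, hT⟩ := t.exists_triangle K N (N + 1) rfl
  have i1 : t.IsLE X' N := ⟨h'⟩
  have i2 : t.IsGE X'' (N + 1) := ⟨h''⟩
  have i5 : t.IsGE (X''⟦(-1 : ℤ)⟧) (N + 2) := t.isGE_shift X'' (N + 1) (-1) (N + 2)
  have i3 : t.IsGE X' a :=
    t.isGE₂ _ (inv_rot_of_distTriang _ hT) a (t.isGE_of_ge (X''⟦(-1 : ℤ)⟧) a (N + 2) (by lia)) hK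
  obtain ⟨m, rfl⟩ : ∃ m : ℕ, N = a + m := ⟨(N - a).toNat, by lia⟩
  have h1 := P.of_bounded t hh m a X' i3 i1
  have h2 : ∀ r : ℤ, r ≤ n → Surj S (X''⟦r⟧) ∧ Inj S (X''⟦r⟧) := by
    intro r hr
    have h3 : t.IsGE (X''⟦r⟧) (a + m + 1 - r) := t.isGE_shift X'' (a + m + 1) r (a + m + 1 - r)
    have h4 : t.IsGE (X''⟦r⟧) 1 := t.isGE_of_ge (X''⟦r⟧) 1 (a + m + 1 - r) (by lia)
    exact both_of_vanish _ (hv _ h4).1 (hv _ h4).2
  exact both_of_dist _ hT n (h1 n) (h2 n le_rfl) (h1 (n + 1)).2 (h2 (n - 1) (by lia)).1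

end Heart

end K1.Five
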