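import Groth.Agent.Localalg.DeltaFun
import Mathlib.CategoryTheory.Abelian.Refinements

/-!
# Four lemma arguments for morphisms of delta functors

`Φ : T ⟶ T'` a morphism of delta functors, `S` short exact.

* `mono_succ₁`: `Φ_n(S.X₂)` epi, `Φ_n(S.X₃)` mono, `Φ_{n+1}(S.X₂)` mono imply `Φ_{n+1}(S.X₁)` mono;
* `mono_coker`: `Φ_n(S.X₃)` epi, `Φ_{n+1}(S.X₃)` mono imply that `coker Φ_{n+1}(S.X₁) ⟶ coker Φ_{n+1}(S.X₂)` is mono;
-/

set_option autoImplicit false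
universe v u v' u'
open CategoryTheory Category Limits

namespace Groth.Agent.EtBC.K1.Four

open Groth.Agent.Localalg.DeltaFun

variable {C : Type u} [Category.{v} C] [Abelian C] {D : Type u'} [Category.{v'} D] [Abelian D]
  {T T' : DeltaFunctor C D} (Φ : DeltaHom T T') {S : ShortComplex C} (hS : S.ShortExact) (n : ℕ)

include hS

theorem mono_succ₁ (h₂ : Epi ((Φ.app n).app S.X₂)) (h₃ : Mono ((Φ.app n).app S.X₃))
    (h₂' : Mono ((Φ.app (n + 1)).app S.X₂)) : Mono ((Φ.app (n + 1)).app S.X₁) := by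
  refine Preadditive.mono_of_cancel_zero _ fun {P} t ht => ?_
  have e1 : t ≫ (T.T (n + 1)).map S.f = 0 := by
    rw [← cancel_mono ((Φ.app (n + 1)).app S.X₂), assoc, (Φ.app (n + 1)).naturality, ← assoc, ht,
      zero_comp, zero_comp]
  obtain ⟨P₁, π₁, _, x, hx⟩ := (T.exact₁ hS n).exact_up_to_refinements t e1
  have e2 : (x ≫ (Φ.app n).app S.X₃) ≫ T'.δ hS n = 0 := by
    rw [assoc, Φ.comm hS n, ← assoc]
    have := congrArg (· ≫ (Φ.app (n + 1)).app S.X₁) hx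
    dsimp at this
    rw [← this, assoc, ht, comp_zero]
  obtain ⟨P₂, π₂, _, y, hy⟩ := (T'.exact₃ hS n).exact_up_to_refinements _ e2
  obtain ⟨P₃, π₃, _, z, hz⟩ := surjective_up_to_refinements_of_epi ((Φ.app n).app S.X₂) y
  dsimp at hx hy y
  have e3 : z ≫ (T.T n).map S.g = π₃ ≫ π₂ ≫ x := by
    rw [← cancel_mono ((Φ.app n).app S.X₃), assoc, (Φ.app n).naturality, ← assoc, ← hz, assoc, ← hy]
    simp only [assoc]
  rw [← cancel_epi π₁, ← cancel_epi π₂, ← cancel_epi π₃, comp_zero, comp_zero, comp_zero, hx,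
    ← assoc, ← assoc, assoc π₃, ← e3, assoc, T.zero₃ hS n, comp_zero]

theorem mono_coker (h₃ : Epi ((Φ.app n).app S.X₃)) (h₃' : Mono ((Φ.app (n + 1)).app S.X₃))
    (φ : cokernel ((Φ.app (n + 1)).app S.X₁) ⟶ cokernel ((Φ.app (n + 1)).app S.X₂))
    (hφ : cokernel.π ((Φ.app (n + 1)).app S.X₁) ≫ φ =
      (T'.T (n + 1)).map S.f ≫ cokernel.π ((Φ.app (n + 1)).app S.X₂)) : Mono φ := by
  refine Preadditive.mono_of_cancel_zero _ fun {P} t ht => ?_
  obtain ⟨P₁, π₁, _, y, hy⟩ :=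
    surjective_up_to_refinements_of_epi (cokernel.π ((Φ.app (n + 1)).app S.X₁)) t
  have e1 : (y ≫ (T'.T (n + 1)).map S.f) ≫ cokernel.π ((Φ.app (n + 1)).app S.X₂) = 0 := by
    rw [assoc, ← hφ, ← assoc, ← hy, assoc, ht, comp_zero]
  have hex : (ShortComplex.mk ((Φ.app (n + 1)).app S.X₂) (cokernel.π ((Φ.app (n + 1)).app S.X₂))
      (cokernel.condition _)).Exact := ShortComplex.exact_cokernel _
  obtain ⟨P₂, π₂, _, x, hx⟩ := hex.exact_up_to_refinements _ e1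
  dsimp at hx x
  have e2 : x ≫ (T.T (n + 1)).map S.g = 0 := by
    rw [← cancel_mono ((Φ.app (n + 1)).app S.X₃), assoc, (Φ.app (n + 1)).naturality, ← assoc, ← hx,
      assoc, assoc, ← Functor.map_comp, S.zero, Functor.map_zero, comp_zero, comp_zero, zero_comp]
  obtain ⟨P₃, π₃, _, (x' : P₃ ⟶ (T.T (n + 1)).obj S.X₁), hx'⟩ :=
    (T.exact₂ hS (n + 1)).exact_up_to_refinements x e2
  replace hx' : π₃ ≫ x = x' ≫ (T.T (n + 1)).map S.f := hx'
  have e3 : (π₃ ≫ π₂ ≫ y - x' ≫ (Φ.app (n + 1)).app S.X₁) ≫ (T'.T (n + 1)).map S.f = 0 := by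
    rw [Preadditive.sub_comp, sub_eq_zero, assoc, assoc, assoc, hx, ← (Φ.app (n + 1)).naturality,
      ← assoc, ← assoc, hx']
  obtain ⟨P₄, π₄, _, z, hz⟩ := (T'.exact₁ hS n).exact_up_to_refinements _ e3
  replace hz : π₄ ≫ (π₃ ≫ π₂ ≫ y - x' ≫ (Φ.app (n + 1)).app S.X₁) = z ≫ T'.δ hS n := hz
  obtain ⟨P₅, π₅, _, w, hw⟩ := surjective_up_to_refinements_of_epi ((Φ.app n).app S.X₃) z
  have e4 : π₅ ≫ π₄ ≫ π₃ ≫ π₂ ≫ y =
      (π₅ ≫ π₄ ≫ x' + w ≫ T.δ hS n) ≫ (Φ.app (n + 1)).app S.X₁ := by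
    rw [Preadditive.comp_sub, sub_eq_iff_eq_add] at hz
    rw [hz, Preadditive.comp_add, ← assoc π₅ z, hw, assoc, Φ.comm hS n, Preadditive.add_comp]
    simp only [assoc]
    exact add_comm _ _
  rw [← cancel_epi π₁, ← cancel_epi π₂, ← cancel_epi π₃, ← cancel_epi π₄, ← cancel_epi π₅, hy]
  simp only [comp_zero]
  have e5 := congrArg (· ≫ cokernel.π ((Φ.app (n + 1)).app S.X₁)) e4
  simp only [assoc, cokernel.condition, comp_zero] at e5
  exact e5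

end Groth.Agent.EtBC.K1.Four
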