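import Groth.Agent.Etcore.MvGlue352
import Groth.Agent.Etcore.HQ
import Groth.Agent.Etcore.LimBC1

/-!
# Étale cohomology of a disjoint union of two open subschemes

`j : U ⟶ T`, `k : V ⟶ T` open immersions with disjoint ranges which cover `T`, `F` a sheaf on `X`,
`q : T ⟶ X`.

* `eq_zero_of_disj`: a class in `HQ F q n` which dies on `U` and on `V` is zero;
* `exists_of_disj`: classes on `U` and `V` come from a class on `T`.
-/

set_option autoImplicit false
set_option backward.isDefEq.respectTransparency false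
set_option backward.isDefEq.respectTransparency.types false
universe u
open CategoryTheory CategoryTheory.Limits AlgebraicGeometry Opposite CategoryTheory.Abelian

namespace Groth.Agent.EtBC.K1.HQDisj

open Groth.Agent.Etcore.ShriekBasic Groth.Agent.Etcore.MVShriek Groth.Agent.Etcore.MVEt
open Groth.Agent.Etcore.PullCoh Groth.Agent.Etcore.MVbc Groth.Agent.Etcore.MvGlue352
open scoped Groth.Agent.Etcore.EtInst
open Groth.Agent.Etcore.EtInst Groth.Agent.Etcore.HpullCalc Groth.Agent.Etcore.HpVia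
open Groth.Agent.Etcore.LimBC1 (res_eq_hpVia)
open Groth.Agent.Etcore.HQ (HQ)

theorem isZero_of_isEmpty {Y : Scheme.{u}} [IsEmpty Y] (F : EtCoh.Ab Y) : IsZero F :=
  Etcore.Stalks.isZero_of_stalks F fun x => (IsEmpty.false x).elim

theorem subsingleton_HH {Y : Scheme.{u}} [IsEmpty Y] (F : EtCoh.Ab Y) (n : ℕ) :
    Subsingleton (HH Y F n) := by
  refine ⟨fun x y => ?_⟩
  have h : ∀ z : HH Y F n, z = 0 := by
    intro z
    have h1 : z.comp (Ext.mk₀ (𝟙 F)) (add_zero n) = z := Ext.comp_mk₀_id z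
    rw [(isZero_of_isEmpty F).eq_of_src (𝟙 F) 0, Ext.mk₀_zero, Ext.comp_zero] at h1
    exact h1.symm
  rw [h x, h y]

section

variable {T U V : Scheme.{u}} (j : U ⟶ T) (k : V ⟶ T) [IsOpenImmersion j] [IsOpenImmersion k]
  (hd : Disjoint (Set.range j) (Set.range k)) (hc : Set.range j ∪ Set.range k = Set.univ)

theorem isZero_P {W : Scheme.{u}} [IsEmpty W] (w : W ⟶ T) [IsOpenImmersion w] (Z : EtCoh.Ab T) :
    IsZero (P w Z) := by
  rw [IsZero.iff_id_eq_zero]
  apply ((adj w).homEquiv _ _).injective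
  exact (isZero_of_isEmpty _).eq_of_src _ _

include hd hc

theorem hp_eq_zero (G : EtCoh.Ab T) (n : ℕ)
    [PreservesFiniteLimits (EtCoh.pull j)] [PreservesFiniteLimits (EtCoh.pull k)]
    (e : HH T G n) (h1 : hp j G n e = 0)
    (h2 : hp k G n e = 0) : e = 0 := by
  let w : ((⊥ : T.Opens) : Scheme.{u}) ⟶ T := (⊥ : T.Opens).ι
  have hw : Set.range w = Set.range j ∩ Set.range k := by
    rw [Scheme.Opens.range_ι, hd.inter_eq]
    rfl
  have hS := shortExact_mv j k w hw (EtCoh.const T ℤ) hc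
  have hE : IsEmpty ((⊥ : T.Opens) : Scheme.{u}) := ⟨fun x => x.2⟩
  obtain ⟨δ, h0, hs, -, -⟩ := Etcore.MVExtAbs.exists_δ (F := G) _ _ _ _ _ hS
    (Hw := fun n => Ext.{u + 1} (P w (EtCoh.const T ℤ)) G n)
    (Hj := fun n => Ext.{u + 1} (P j (EtCoh.const T ℤ)) G n)
    (Hk := fun n => Ext.{u + 1} (P k (EtCoh.const T ℤ)) G n)
    (fun n => AddEquiv.refl _) (fun n => AddEquiv.refl _) (fun n => AddEquiv.refl _)
    (fun n => (Ext.mk₀ _).precomp G (zero_add n)) (fun n => (Ext.mk₀ _).precomp G (zero_add n))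
    (fun _ _ => rfl) (fun _ _ => rfl)
    (fun n => (Ext.mk₀ _).precomp G (zero_add n)) (fun n => (Ext.mk₀ _).precomp G (zero_add n))
    (fun _ _ => rfl) (fun _ _ => rfl)
  rw [hp_eq_psi] at h1 h2
  have h1' := (psi_bijective j G n).1 (h1.trans (map_zero _).symm)
  have h2' := (psi_bijective k G n).1 (h2.trans (map_zero _).symm)
  cases n with
  | zero =>
    have : e ∈ (⊥ : AddSubgroup _) := by
      rw [← h0]
      exact Prod.ext h1' h2'
    exact this
  | succ n =>
    have : e ∈ (δ n).range := by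
      rw [← hs]
      exact Prod.ext h1' h2'
    obtain ⟨y, rfl⟩ := this
    have hy : y = 0 := by
      have h3 : (Ext.mk₀ (𝟙 _)).comp y (zero_add n) = y := Ext.mk₀_id_comp y
      rw [(isZero_P w (EtCoh.const T ℤ)).eq_of_src (𝟙 _) 0, Ext.mk₀_zero, Ext.zero_comp] at h3
      exact h3.symm
    rw [hy, map_zero]

attribute [local instance] Groth.Agent.Etcore.HQ.pfl

variable {X : Scheme.{u}} (F : EtCoh.Ab X) {q : T ⟶ X}

/-- A class which dies on both pieces of a disjoint cover is zero. -/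
theorem eq_zero_of_disj {qU : U ⟶ X} (hU : j ≫ q = qU) {qV : V ⟶ X} (hV : k ≫ q = qV) (n : ℕ)
    (e : HQ F q n) (h1 : Etcore.HQ.res F j hU n e = 0) (h2 : Etcore.HQ.res F k hV n e = 0) :
    e = 0 := by
  refine hp_eq_zero j k hd hc _ n e ?_ ?_
  · rw [Etcore.HQ.res_apply] at h1
    exact (HHmap_bijective (th j q qU hU F) n).1 (h1.trans (map_zero _).symm)
  · rw [Etcore.HQ.res_apply] at h2
    exact (HHmap_bijective (th k q qV hV F) n).1 (h2.trans (map_zero _).symm)

/-- Two classes which agree on both pieces of a disjoint cover are equal. -/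
theorem eq_of_disj {qU : U ⟶ X} (hU : j ≫ q = qU) {qV : V ⟶ X} (hV : k ≫ q = qV) (n : ℕ)
    (e e' : HQ F q n) (h1 : Etcore.HQ.res F j hU n e = Etcore.HQ.res F j hU n e')
    (h2 : Etcore.HQ.res F k hV n e = Etcore.HQ.res F k hV n e') : e = e' := by
  rw [← sub_eq_zero]
  refine eq_zero_of_disj j k hd hc F hU hV n _ ?_ ?_
  · rw [map_sub, h1, sub_self]
  · rw [map_sub, h2, sub_self]

/-- Classes on the two pieces of a disjoint cover glue. -/
theorem exists_of_disj {qU : U ⟶ X} (hU : j ≫ q = qU) {qV : V ⟶ X} (hV : k ≫ q = qV) (n : ℕ)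
    (x : HQ F qU n) (y : HQ F qV n) :
    ∃ e : HQ F q n, Etcore.HQ.res F j hU n e = x ∧ Etcore.HQ.res F k hV n e = y := by
  let w : ((⊥ : T.Opens) : Scheme.{u}) ⟶ T := (⊥ : T.Opens).ι
  have hw : Set.range w = Set.range j ∩ Set.range k := by
    rw [Scheme.Opens.range_ι, hd.inter_eq]
    rfl
  have hE : IsEmpty ((⊥ : T.Opens) : Scheme.{u}) := ⟨fun x => x.2⟩
  obtain ⟨x', rfl⟩ := (HHmap_bijective (th j q qU hU F) n).2 x
  obtain ⟨y', rfl⟩ := (HHmap_bijective (th k q qV hV F) n).2 y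
  have ha : IsOpenImmersion.lift j w (hw ▸ Set.inter_subset_left) ≫ j = w :=
    IsOpenImmersion.lift_fac _ _ _
  have hb : IsOpenImmersion.lift k w (hw ▸ Set.inter_subset_right) ≫ k = w :=
    IsOpenImmersion.lift_fac _ _ _
  obtain ⟨e, he1, he2⟩ := glue j k w _ _ ha hb hw hc ((EtCoh.pull q).obj F) n x' y'
    ((subsingleton_HH _ n).elim _ _)
  refine ⟨e, ?_, ?_⟩
  · rw [Etcore.HQ.res_apply, he1]
  · rw [Etcore.HQ.res_apply, he2]

end

end Groth.Agent.EtBC.K1.HQDisj
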