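import Groth.Agent.EtBC.K1.FieldDev
import Groth.Agent.EtBC.K1.BcMono
import Groth.Agent.SGA4h.K557.WeakEt
import Groth.Agent.EtpbcA.PullFLC

/-!
# Base change maps over a strictly local base

`A → C` a local homomorphism of strictly henselian local rings, `τ : Spec C ⟶ X'` a strict localization,
`f' : X' ⟶ Spec A`.
* `bijective_hp_of_bq`: for `g : T ⟶ Spec A` qcqs, if the base change map of `g` along `f'` is an isomorphism then
  `H^q(T, G) → H^q(T ×_A C, G)` is bijective;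
* `isIso_bq_of_right`: base change maps along `ρ ≫ v` if `ρ` is weakly étale.
-/

set_option autoImplicit false
universe u
open CategoryTheory CategoryTheory.Limits AlgebraicGeometry Opposite Abelian IsLocalRing
open scoped Groth.Agent.Etcore.EtInst Groth.Agent.Sga4B.EtAbInst
open Groth.Agent.Etcore.EtInst Groth.Agent.Etcore.HpullCalc
open K557.BcQ K557.WeakEt Groth.Agent.Etrest.StrictLoc

namespace Groth.Agent.EtBC.K1.LocalBc

open Groth.Agent.Etcore.HQ in
attribute [local instance] pfl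

theorem isPullback_id {T S : Scheme.{u}} (g : T ⟶ S) : IsPullback (𝟙 T) g g (𝟙 S) :=
  IsPullback.of_horiz_isIso ⟨by rw [Category.id_comp, Category.comp_id]⟩

section Local

variable {A C : Type u} [CommRing A] [CommRing C] [IsLocalRing A] [IsLocalRing C]
  (hA : IsStrictLoc (𝟙 (Spec (.of A)))) {X' : Scheme.{u}} {f' : X' ⟶ Spec (.of A)}
  {τ : Spec (.of C) ⟶ X'} (hτ : IsStrictLoc τ) (β : A →+* C) [IsLocalHom β] (hβ : spm β = τ ≫ f')

include hA hτ hβ in
theorem bijective_hp_of_bq {T Y TR : Scheme.{u}} {g : T ⟶ Spec (.of A)} {h : Y ⟶ X'} {e : Y ⟶ T}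
    (c : IsPullback e h g f') [QuasiCompact g] [QuasiSeparated g] {b : TR ⟶ Spec (.of C)} {k : TR ⟶ T}
    (c' : IsPullback b k (spm β) g) (q : ℕ) (G : EtCoh.Ab T) (hG : IsIso (bq c.w q G)) :
    Function.Bijective (hp k G q) := by
  have i1 : QuasiCompact h := MorphismProperty.of_isPullback c ‹_›
  have i2 : QuasiSeparated h := MorphismProperty.of_isPullback c ‹_›
  have w1 : k ≫ g = (b ≫ τ) ≫ f' := by rw [Category.assoc, ← hβ, c'.w]
  let a' : TR ⟶ Y := c.lift k (b ≫ τ) w1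
  have ha1 : a' ≫ e = k := c.lift_fst _ _ _
  have ha2 : a' ≫ h = b ≫ τ := c.lift_snd _ _ _
  have H' : IsPullback a' b h τ := by
    refine IsPullback.of_right (h₁₂ := e) (h₂₂ := f') (v₁₃ := g) ?_ ha2 c
    rw [ha1, ← hβ]
    exact c'.flip
  have h1 := bijective_hp_of_isIso_bq c.w q G hG hA hτ β (by rw [Category.comp_id]; exact hβ)
    (isPullback_id g) H' (k := k) (by rw [Category.comp_id, ha1]) c'.w.symm
  exact bijective_hp_of_iso k ((Groth.Agent.EtpbcA.PullFLC.pullId T).app G) h1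

end Local

section Paste

variable {X Y X' Y' X'' Y'' : Scheme.{u}} {f : X ⟶ Y} {g : Y' ⟶ Y} {f' : X' ⟶ Y'} {g' : X' ⟶ X}
  {f'' : X'' ⟶ Y''} {h : Y'' ⟶ Y'} {h' : X'' ⟶ X'}

theorem isIso_bq_congr {Z P : Scheme.{u}} {t₁ t₂ : Z ⟶ Y} {r : P ⟶ Z}
    {b₁ b₂ : P ⟶ X} (ht : t₁ = t₂) (hb : b₁ = b₂) (w₁ : b₁ ≫ f = r ≫ t₁) (w₂ : b₂ ≫ f = r ≫ t₂)
    (q : ℕ) (F : EtCoh.Ab X) : IsIso (bq w₁ q F) ↔ IsIso (bq w₂ q F) := by
  subst ht; subst hb; rfl

/-- Base change along a composite `h ≫ g` with `h` weakly étale. -/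
theorem isIso_bq_of_right [QuasiCompact f] [QuasiSeparated f] (c₁ : IsPullback g' f' f g)
    [WeaklyEtale h] {k : Y'' ⟶ Y} (hk : h ≫ g = k) {k' : X'' ⟶ X}
    (c : IsPullback k' f'' f k) (q : ℕ) (F : EtCoh.Ab X) (h₁ : IsIso (bq c₁.w q F)) :
    IsIso (bq c.w q F) := by
  have i1 : QuasiCompact f' := MorphismProperty.of_isPullback c₁ ‹_›
  have i2 : QuasiSeparated f' := MorphismProperty.of_isPullback c₁ ‹_›
  have w : k' ≫ f = (f'' ≫ h) ≫ g := by rw [c.w, ← hk, Category.assoc]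
  let l : X'' ⟶ X' := c₁.lift k' (f'' ≫ h) w
  have hl1 : l ≫ g' = k' := c₁.lift_fst _ _ _
  have hl2 : l ≫ f' = f'' ≫ h := c₁.lift_snd _ _ _
  have c₂ : IsPullback l f'' f' h := by
    refine IsPullback.of_right (h₁₂ := g') (h₂₂ := g) (v₁₃ := f) ?_ hl2 c₁
    rw [hl1, hk]
    exact c
  have h₂ : IsIso (bq c₂.w q ((EtCoh.pull g').obj F)) := isIso_bq_of_weaklyEtale c₂ q _
  have w₃ : (l ≫ g') ≫ f = f'' ≫ (h ≫ g) := by rw [hl1, hk, c.w]
  rw [← isIso_bq_congr hk hl1 w₃ c.w]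
  exact (isIso_bq_paste c₁.w c₂.w w₃ q F inferInstance).2 h₂

end Paste

section Inj

open Groth.Agent.Etcore.HQ Groth.Agent.Localalg.DeltaFun Groth.Agent.EtpbcB.NKill Groth.Agent.EtpbcB.NKillEt

/-- Injectivity in degree `m + 1` from bijectivity in degree `m`. -/
theorem injective_hp_succ {T TR : Scheme.{u}} (k : TR ⟶ T) {N m : ℕ}
    (H : ∀ G : EtCoh.Ab T, EtCoh.KilledBy N G → Function.Bijective (hp k G m)) {F : EtCoh.Ab T}
    (hF : EtCoh.KilledBy N F) : Function.Injective (hp k F (m + 1)) := by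
  obtain ⟨I, ι, hι, hI, -, hI1⟩ := BcMono.exists_acyc hF
  have hS := shortExact_cokernel ι
  have hQ : EtCoh.KilledBy N (cokernel ι) :=
    (killedBy_iff N _).2 (killed_of_epi (cokernel.π ι) ((killedBy_iff N _).1 hI))
  have h1 : Mono (((K557.HpBc.hpD k).app (m + 1)).app F) := by
    refine Four.mono_succ₁ (K557.HpBc.hpD k) hS m ?_ ?_ ?_
    · exact (AddCommGrpCat.epi_iff_surjective _).2 (H I hI).2
    · exact (AddCommGrpCat.mono_iff_injective _).2 (H _ hQ).1
    · refine (AddCommGrpCat.mono_iff_injective _).2 ?_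
      have := hI1 m
      exact Function.injective_of_subsingleton (α := HH T I (m + 1)) _
  exact (AddCommGrpCat.mono_iff_injective _).1 h1

end Inj

end Groth.Agent.EtBC.K1.LocalBc
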