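import Groth.Agent.EtBC.K1.ProfinPt

/-!
# Bijectivity of pullback over a profinite set of points

`B` ind-étale over a separably closed field, `y : Y ⟶ Spec B` qcqs: the pullback map
`H^n(Spec B, F) ⟶ H^n(Y, F)` is bijective iff `H^n(Spec κ(p), F) ⟶ H^n(Y_p, F)` is bijective for all primes `p`
of `B`.
-/

set_option autoImplicit false
universe u
open CategoryTheory CategoryTheory.Limits AlgebraicGeometry Opposite Abelian
open scoped Groth.Agent.Etcore.EtInst
open Groth.Agent.Etcore.EtInst Groth.Agent.Etcore.HpullCalc Groth.Agent.Etcore.PullCoh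
  Groth.Agent.Etcore.HpVia Groth.Agent.Etcore.HQ Groth.Agent.Etcore.LimBC1
open Groth.Agent.EtBC.K1.SurjAt Groth.Agent.EtBC.K1.SurjAtLim Groth.Agent.EtBC.K1.SepProfin
  Groth.Agent.EtBC.K1.ProfinPt

namespace Groth.Agent.EtBC.K1.ProfinBC

attribute [local instance] pfl

variable {K : Type u} [Field K] [IsSepClosed K] {B : Type u} [CommRing B] [Algebra K B]
  {X Y : Scheme.{u}} (F : EtCoh.Ab X) (z : Spec (.of B) ⟶ X) (y : Y ⟶ Spec (.of B)) (n : ℕ)

omit [IsSepClosed K] in
theorem cond {T : Scheme.{u}} (τ : T ⟶ Spec (.of B)) :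
    pullback.snd y τ ≫ τ ≫ z = pullback.fst y τ ≫ y ≫ z := by
  rw [← Category.assoc, ← Category.assoc, pullback.condition]

theorem exists_extension_base (h : EtPBC.IsIndEtale K B) (p : PrimeSpectrum B)
    (ζ : HQ F (ptMap p ≫ z) n) :
    ∃ ζ' : HQ F z n, res F (q' := ptMap p ≫ z) (ptMap p) rfl n ζ' = ζ := by
  have e1 : pullback.snd (𝟙 (Spec (.of B))) (ptMap p) ≫ ptMap p =
      pullback.fst (𝟙 (Spec (.of B))) (ptMap p) := by
    rw [← pullback.condition, Category.comp_id]
  have e2 : pullback.snd (𝟙 (Spec (.of B))) (ptMap p) ≫ ptMap p ≫ z =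
      pullback.fst (𝟙 (Spec (.of B))) (ptMap p) ≫ z := by
    rw [← Category.assoc, e1]
  obtain ⟨ζ', hζ'⟩ := exists_extension (y := 𝟙 (Spec (.of B))) (v := z) h p
    (res F (pullback.snd (𝟙 (Spec (.of B))) (ptMap p)) e2 n ζ)
  refine ⟨ζ', (res_bijective F (pullback.snd (𝟙 (Spec (.of B))) (ptMap p)) e2 n).1 ?_⟩
  rw [← hζ']
  exact res_res F (ptMap p) rfl _ e2 _ e1 rfl n ζ'

theorem bijective_iff (h : EtPBC.IsIndEtale K B) [QuasiCompact y] [QuasiSeparated y] :
    Function.Bijective (res F (q := z) (q' := y ≫ z) y rfl n) ↔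
      ∀ p : PrimeSpectrum B,
        Function.Bijective (res F (pullback.snd y (ptMap p)) (cond z y (ptMap p)) n) := by
  constructor
  · intro hb p
    refine ⟨(injective_iff_map_eq_zero _).2 fun ζ hζ => ?_, fun θ => ?_⟩
    · obtain ⟨ζ', rfl⟩ := exists_extension_base F z n h p ζ
      have hpy : (pullback.snd y (ptMap p) ≫ ptMap p) ≫ z = pullback.fst y (ptMap p) ≫ y ≫ z := by
        rw [Category.assoc, cond]
      rw [res_res F (ptMap p) rfl (pullback.snd y (ptMap p)) (cond z y (ptMap p)) _ rfl hpy n ζ',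
        ← res_congr F pullback.condition (by rw [Category.assoc]) hpy n ζ',
        ← res_res F y rfl (pullback.fst y (ptMap p)) rfl _ rfl (Category.assoc _ _ _) n ζ'] at hζ
      obtain ⟨e, he, hep, h1⟩ := exists_zero_loc h (res F (q' := y ≫ z) y rfl n ζ') p hζ
      obtain ⟨ζ'', h2, h3⟩ := HQDisj.exists_of_disj (loc e) (loc (1 - e)) (disjoint_range he)
        (range_union e) F (q := z) rfl rfl n (res F (loc e) rfl n ζ') 0
      have h4 : ζ'' = 0 := by
        apply hb.1
        rw [map_zero]
        let a : pullback y (loc e) ⟶ Y := pullback.fst y (loc e)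
        let b : pullback y (loc (1 - e)) ⟶ Y := pullback.fst y (loc (1 - e))
        have ha : Set.range a = y ⁻¹' Set.range (loc e) := Scheme.Pullback.range_fst _ _
        have hb : Set.range b = y ⁻¹' Set.range (loc (1 - e)) := Scheme.Pullback.range_fst _ _
        refine HQDisj.eq_zero_of_disj a b (by rw [ha, hb]; exact (disjoint_range he).preimage _)
          (by rw [ha, hb, ← Set.preimage_union, range_union, Set.preimage_univ]) F rfl rfl n _ ?_ ?_
        · have e1 : (pullback.snd y (loc e) ≫ loc e) ≫ z = a ≫ y ≫ z := by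
            rw [Category.assoc, cond]
          rw [res_res F y rfl a rfl _ rfl (Category.assoc _ _ _) n ζ'',
            res_congr F (k := a ≫ y) pullback.condition (by rw [Category.assoc]) e1 n ζ'',
            ← res_res F (loc e) rfl (pullback.snd y (loc e)) (cond z y (loc e)) _ rfl e1 n ζ'', h2,
            res_res F (loc e) rfl (pullback.snd y (loc e)) (cond z y (loc e)) _ rfl e1 n ζ',
            ← res_congr F (k := a ≫ y) pullback.condition (by rw [Category.assoc]) e1 n ζ',
            ← res_res F y rfl a rfl _ rfl (Category.assoc _ _ _) n ζ']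
          exact h1
        · have e1 : (pullback.snd y (loc (1 - e)) ≫ loc (1 - e)) ≫ z = b ≫ y ≫ z := by
            rw [Category.assoc, cond]
          rw [res_res F y rfl b rfl _ rfl (Category.assoc _ _ _) n ζ'',
            res_congr F (k := b ≫ y) pullback.condition (by rw [Category.assoc]) e1 n ζ'',
            ← res_res F (loc (1 - e)) rfl (pullback.snd y (loc (1 - e))) (cond z y (loc (1 - e))) _
              rfl e1 n ζ'', h3, map_zero]
      obtain ⟨k', hk'⟩ := exists_pt_loc p hep
      have e3 : k' ≫ loc e ≫ z = ptMap p ≫ z := by rw [← Category.assoc, hk']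
      rw [← res_res F (loc e) rfl k' e3 _ hk' rfl n ζ', ← h2, h4, map_zero, map_zero]
    · obtain ⟨ζ, hζ⟩ := exists_extension h p θ
      obtain ⟨η, rfl⟩ := hb.2 ζ
      refine ⟨res F (ptMap p) rfl n η, ?_⟩
      rw [← hζ]
      have hpy : (pullback.snd y (ptMap p) ≫ ptMap p) ≫ z = pullback.fst y (ptMap p) ≫ y ≫ z := by
        rw [Category.assoc, cond]
      rw [res_res F (ptMap p) rfl (pullback.snd y (ptMap p)) (cond z y (ptMap p)) _ rfl hpy n η,
        ← res_congr F pullback.condition (by rw [Category.assoc]) hpy n η,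
        ← res_res F y rfl (pullback.fst y (ptMap p)) rfl _ rfl (Category.assoc _ _ _) n η]
  · intro H
    refine ⟨(injective_iff_map_eq_zero _).2 fun ζ hζ => ?_, fun ξ => ?_⟩
    · refine eq_zero_of_pts h ζ fun p => ?_
      apply (H p).1
      have hpy : (pullback.snd y (ptMap p) ≫ ptMap p) ≫ z = pullback.fst y (ptMap p) ≫ y ≫ z := by
        rw [Category.assoc, cond]
      rw [res_res F (ptMap p) rfl (pullback.snd y (ptMap p)) (cond z y (ptMap p)) _ rfl hpy n ζ,
        ← res_congr F pullback.condition (by rw [Category.assoc]) hpy n ζ,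
        ← res_res F y rfl (pullback.fst y (ptMap p)) rfl _ rfl (Category.assoc _ _ _) n ζ, hζ,
        map_zero, map_zero]
    · have h1 : SurjAt F z y n ξ (𝟙 _) := surjAt_id h fun p => (H p).2 _
      rw [surjAt_iff (IsPullback.of_horiz_isIso ⟨by rw [Category.id_comp, Category.comp_id]⟩ :
        IsPullback (𝟙 Y) y y (𝟙 _)) (Category.id_comp _) (Category.id_comp _) rfl] at h1
      obtain ⟨η, hη⟩ := h1
      refine ⟨η, (res_bijective F (𝟙 Y) (Category.id_comp _) n).1 ?_⟩
      rw [← hη]
      exact res_res F y rfl (𝟙 Y) (Category.id_comp _) _ (Category.id_comp _) rfl n η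

end Groth.Agent.EtBC.K1.ProfinBC
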