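import Groth.Agent.Etcore.LimBC1
import Groth.Agent.Etcore.HpVia
import Groth.Agent.Etcore.HpullEq
import Groth.Agent.Etcore.HpullViaEq

/-!
# Bijectivity of `res`

* `bijective_res_iff`: invariance under isomorphism of squares;
* `bijective_Hpull_iff_res`, `bijective_HpullVia_iff_res`: `EtCore.Hpull`, `EtCore.HpullVia` in terms of `res`.
-/

set_option autoImplicit false
universe u
open CategoryTheory CategoryTheory.Limits AlgebraicGeometry Opposite Abelian
open scoped Groth.Agent.Etcore.EtInst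
open Groth.Agent.Etcore.EtInst Groth.Agent.Etcore.HpullCalc Groth.Agent.Etcore.PullCoh
  Groth.Agent.Etcore.HpVia Groth.Agent.Etcore.HQ Groth.Agent.Etcore.LimBC1

namespace Groth.Agent.EtBC.K1.ResIso

attribute [local instance] pfl

variable {X : Scheme.{u}} (F : EtCoh.Ab X) (n : ℕ)

theorem bijective_res_iff {T T' S S' : Scheme.{u}} {q : T ⟶ X} {q' : T' ⟶ X} {r : S ⟶ X} {r' : S' ⟶ X}
    (a : S ⟶ T) (ha : a ≫ q = r) (b : S' ⟶ T') (hb : b ≫ q' = r') (i : S ⟶ S') [IsIso i]
    (j : T ⟶ T') [IsIso j] (hj : j ≫ q' = q) (comm : i ≫ b = a ≫ j) :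
    Function.Bijective (res F a ha n) ↔ Function.Bijective (res F b hb n) := by
  have hi : i ≫ r' = r := by rw [← hb, ← ha, ← Category.assoc, comm, Category.assoc, hj]
  have hib : (i ≫ b) ≫ q' = r := by rw [Category.assoc, hb, hi]
  have key : (⇑(res F a ha n) ∘ ⇑(res F j hj n)) = (⇑(res F i hi n) ∘ ⇑(res F b hb n)) := by
    funext x
    simp only [Function.comp_apply]
    rw [res_res F j hj a ha _ comm.symm hib n x, res_res F b hb i hi _ rfl hib n x]
  rw [← Function.Bijective.of_comp_iff _ (res_bijective F j hj n), key,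
    Function.Bijective.of_comp_iff' (res_bijective F i hi n)]

theorem bijective_Hpull_iff_res {Q : Scheme.{u}} (a : Q ⟶ X) :
    Function.Bijective (EtCore.Hpull a F n) ↔
      Function.Bijective (res F (q := 𝟙 X) (q' := a) a (Category.comp_id a) n) := by
  rw [bijective_Hpull_iff]
  have key : ⇑(res F (q := 𝟙 X) (q' := a) a (Category.comp_id a) n) ∘ ⇑(hp (𝟙 X) F n) =
      ⇑(hp a F n) := by
    funext x
    simp only [Function.comp_apply]
    rw [res_eq_hpVia]
    exact hpVia_hp a (𝟙 X) a (Category.comp_id a) F n x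
  rw [← key, Function.Bijective.of_comp_iff _ (hp_id_bijective X F n)]

theorem bijective_HpullVia_iff_res {Y Z : Scheme.{u}} (f : Y ⟶ Z) (t : Z ⟶ X) (f₀ : Y ⟶ X)
    (w : f ≫ t = f₀) :
    Function.Bijective (EtCore.HpullVia f t f₀ w F n) ↔ Function.Bijective (res F f w n) := by
  have key : (fun x : HH Z ((EtCoh.pull t).obj F) n =>
      (EtCore.HpullVia f t f₀ w F n x : HH Y ((EtCoh.pull f₀).obj F) n)) = ⇑(res F f w n) := by
    funext x
    rw [res_eq_hpVia]
    exact HpullVia_apply_eq_hpVia f t f₀ w F n x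
  exact iff_of_eq (congrArg Function.Bijective key)

end Groth.Agent.EtBC.K1.ResIso
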