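import Groth.Agent.EtBC.K1.ProfinBC
import Groth.Agent.EtBC.K1.ResIso
import Mathlib.AlgebraicGeometry.Pullbacks

/-!
# The fibre criterion in terms of `K`-points
-/

set_option autoImplicit false
universe u
open CategoryTheory CategoryTheory.Limits AlgebraicGeometry Opposite Abelian
open scoped TensorProduct
open Groth.Agent.Etcore.HQ Groth.Agent.Etcore.LimBC1
open Groth.Agent.EtBC.K1.SepProfin
  Groth.Agent.EtBC.K1.ProfinPt Groth.Agent.EtBC.K1.ProfinBC Groth.Agent.EtBC.K1.ResIso

namespace Groth.Agent.EtBC.K1.ProfinPbk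

attribute [local instance] pfl

variable {K : Type u} [Field K] [IsSepClosed K] {B : Type u} [CommRing B] [Algebra K B]

section Pt

variable (h : EtPBC.IsIndEtale K B) (p : PrimeSpectrum B)

include h in
theorem bijective_algebraMap_residueField :
    Function.Bijective (algebraMap K p.asIdeal.ResidueField) := by
  refine ⟨(algebraMap K _).injective, fun x => ?_⟩
  have hb := algebraMap_quotient_bijective h p.asIdeal
  obtain ⟨a, b, -, rfl⟩ := IsFractionRing.div_surjective (A := B ⧸ p.asIdeal) x
  obtain ⟨a, rfl⟩ := hb.2 a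
  obtain ⟨b, rfl⟩ := hb.2 b
  refine ⟨a / b, ?_⟩
  rw [map_div₀, ← IsScalarTower.algebraMap_apply, ← IsScalarTower.algebraMap_apply]

variable {Y Q : Scheme.{u}} (F : EtCoh.Ab (Spec (.of K))) (y : Y ⟶ Spec (.of B)) (n : ℕ)
  (φ : B →+* K) (hφ : φ.comp (algebraMap K B) = RingHom.id K) (hp : p.asIdeal = RingHom.ker φ)
  (a : Q ⟶ Spec (.of K)) (c : Q ⟶ Y) (H : IsPullback c a y (Spec.map (CommRingCat.ofHom φ)))

include hφ hp in
omit [IsSepClosed K] in
theorem algebraMap_comp_eq : (algebraMap K p.asIdeal.ResidueField).comp φ =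
    algebraMap B p.asIdeal.ResidueField := by
  ext b
  have h1 : b - algebraMap K B (φ b) ∈ p.asIdeal := by
    rw [hp, RingHom.mem_ker, map_sub]
    have := RingHom.congr_fun hφ (φ b)
    rw [RingHom.comp_apply, RingHom.id_apply] at this
    rw [this, sub_self]
  have h2 := (Ideal.algebraMap_residueField_eq_zero (I := p.asIdeal)).2 h1
  rw [map_sub, sub_eq_zero] at h2
  rw [RingHom.comp_apply, h2, ← IsScalarTower.algebraMap_apply]

include h hφ hp H in
theorem pt_iff :
    Function.Bijective (res F (pullback.snd y (ptMap p))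
      (cond (Spec.map (CommRingCat.ofHom (algebraMap K B))) y (ptMap p)) n) ↔
      Function.Bijective (EtCore.Hpull a F n) := by
  let e : K ≃+* p.asIdeal.ResidueField :=
    RingEquiv.ofBijective _ (bijective_algebraMap_residueField h p)
  let θ : Spec (.of p.asIdeal.ResidueField) ⟶ Spec (.of K) :=
    Spec.map (CommRingCat.ofHom (algebraMap K p.asIdeal.ResidueField))
  have hθ : IsIso θ := by
    have : IsIso (CommRingCat.ofHom (algebraMap K p.asIdeal.ResidueField)) :=
      e.toCommRingCatIso.isIso_hom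
    exact inferInstanceAs (IsIso (Spec.map _))
  have hθφ : θ ≫ Spec.map (CommRingCat.ofHom φ) = ptMap p := by
    rw [← Spec.map_comp, ← CommRingCat.ofHom_comp, algebraMap_comp_eq p φ hφ hp]
  have hφz : Spec.map (CommRingCat.ofHom φ) ≫ Spec.map (CommRingCat.ofHom (algebraMap K B)) = 𝟙 _ := by
    rw [← Spec.map_comp, ← CommRingCat.ofHom_comp, hφ]
    exact Spec.map_id _
  have c' : IsPullback (pullback.fst y (ptMap p)) (pullback.snd y (ptMap p) ≫ θ) y
      (Spec.map (CommRingCat.ofHom φ)) := by
    refine IsPullback.of_iso (IsPullback.of_hasPullback y (ptMap p)) (Iso.refl _) (Iso.refl _)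
      (asIso θ) (Iso.refl _) ?_ ?_ ?_ ?_
    · simp
    · simp
    · simp
    · simp [hθφ]
  rw [bijective_Hpull_iff_res]
  refine bijective_res_iff F n _ _ a _ (c'.isoIsPullback _ _ H).hom θ ?_ ?_
  · rw [Category.comp_id, ← hθφ, Category.assoc, hφz, Category.comp_id]
  · exact c'.isoIsPullback_hom_snd _ _ H

end Pt

end Groth.Agent.EtBC.K1.ProfinPbk
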