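import Groth.Agent.Proet.IndEtale
import Groth.Agent.Ega43.ResSys
import Mathlib.RingTheory.Etale.Field
import Mathlib.FieldTheory.IsSepClosed

/-!
# Ind-étale algebras over a separably closed field

`B` an ind-étale algebra over a separably closed field `K` (so `Spec B` is a profinite set of `K`-points), `p` a
prime of `B`.

* `exists_idem`: every `x : B` agrees with a constant on a clopen neighbourhood of `p`;
* `algebraMap_bijective`: `K ≃ B / p`;
* `exists_idem_stage`: every stage of the system of `Ega43.ResSys` with limit `Spec κ(p)` contains a clopen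
  neighbourhood `Spec B_e` of `p`.
-/

set_option autoImplicit false
universe u
open CategoryTheory Limits

namespace Groth.Agent.EtBC.K1.SepProfin

variable {K : Type u} [Field K] [IsSepClosed K] {B : Type u} [CommRing B] [Algebra K B]

theorem exists_idem (h : EtPBC.IsIndEtale K B) (p : Ideal B) [p.IsPrime] (x : B) :
    ∃ (c : K) (e : B), IsIdempotentElem e ∧ e ∉ p ∧ e * x = c • e := by
  obtain ⟨W, _, _, u, v, hW, huv⟩ := (Proet.IndEtale.isIndEtale_iff_factor K B).1 h (Polynomial K)
    inferInstance (Polynomial.aeval x)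
  obtain ⟨I, hI, A, _, _, φ, hA⟩ := (Algebra.Etale.iff_exists_algEquiv_prod K W).1 hW
  have := Fintype.ofFinite I
  classical
  let w : Π i, A i := φ (u Polynomial.X)
  have hx : v (φ.symm w) = x := by
    have := congrArg (fun f => f Polynomial.X) huv
    simpa [w] using this
  let ε : I → B := fun i => v (φ.symm (Pi.single i 1))
  have hsum : ∑ i, ε i = 1 := by
    rw [← map_sum v, ← map_sum φ.symm, Finset.univ_sum_single (fun _ => 1)]
    change v (φ.symm 1) = 1
    rw [map_one, map_one]
  obtain ⟨i, hi⟩ : ∃ i, ε i ∉ p := by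
    by_contra hc
    push Not at hc
    exact ‹p.IsPrime›.ne_top ((Ideal.eq_top_iff_one p).2 (hsum ▸ p.sum_mem fun i _ => hc i))
  have := (hA i).2
  obtain ⟨c, hc⟩ := IsSepClosed.algebraMap_surjective K (A i) (w i)
  refine ⟨c, ε i, ?_, hi, ?_⟩
  · change v (φ.symm (Pi.single i 1)) * v (φ.symm (Pi.single i 1)) = v (φ.symm (Pi.single i 1))
    rw [← map_mul, ← map_mul, ← Pi.single_mul, mul_one]
  · rw [← hx]
    change v (φ.symm (Pi.single i 1)) * v (φ.symm w) = c • v (φ.symm (Pi.single i 1))
    rw [← map_mul, ← map_mul, ← map_smul, ← map_smul]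
    congr 2
    ext k
    by_cases hk : k = i
    · subst hk
      rw [Pi.mul_apply, Pi.smul_apply, Pi.single_eq_same, one_mul, Algebra.smul_def, mul_one]
      exact hc.symm
    · simp [hk]

theorem algebraMap_quotient_bijective (h : EtPBC.IsIndEtale K B) (p : Ideal B) [p.IsPrime] :
    Function.Bijective (algebraMap K (B ⧸ p)) := by
  refine ⟨(algebraMap K (B ⧸ p)).injective, fun x => ?_⟩
  obtain ⟨x, rfl⟩ := Ideal.Quotient.mk_surjective x
  obtain ⟨c, e, -, he, hx⟩ := exists_idem h p x
  refine ⟨c, ?_⟩
  rw [IsScalarTower.algebraMap_apply K B (B ⧸ p), Ideal.Quotient.algebraMap_eq, eq_comm,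
    Ideal.Quotient.mk_eq_mk_iff_sub_mem]
  refine (‹p.IsPrime›.mem_or_mem (x := e) ?_).resolve_left he
  rw [mul_sub, hx, Algebra.smul_def, mul_comm, sub_self]
  exact p.zero_mem

/-- Finitely many elements of `p` vanish on a clopen neighbourhood of `p`. -/
theorem exists_idem_finset (h : EtPBC.IsIndEtale K B) (p : Ideal B) [p.IsPrime] (s : Finset B)
    (hs : ∀ x ∈ s, x ∈ p) : ∃ e : B, IsIdempotentElem e ∧ e ∉ p ∧ ∀ x ∈ s, e * x = 0 := by
  classical
  induction s using Finset.induction_on with
  | empty => exact ⟨1, IsIdempotentElem.one, fun h1 => ‹p.IsPrime›.ne_top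
      ((Ideal.eq_top_iff_one p).2 h1), by simp⟩
  | insert a s ha ih =>
    obtain ⟨e, he, hep, hes⟩ := ih fun x hx => hs x (Finset.mem_insert_of_mem hx)
    obtain ⟨c, e', he', hep', hx⟩ := exists_idem h p a
    have hc : c = 0 := by
      by_contra hc
      have h1 : c • e' ∈ p := by
        rw [← hx]
        exact p.mul_mem_left _ (hs a (Finset.mem_insert_self _ _))
      apply hep'
      have h2 : c⁻¹ • c • e' ∈ p := by
        rw [Algebra.smul_def]
        exact p.mul_mem_left _ h1
      rwa [inv_smul_smul₀ hc] at h2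
    refine ⟨e * e', he.mul he', fun hm => (‹p.IsPrime›.mem_or_mem hm).elim hep hep', ?_⟩
    intro x hx'
    rcases Finset.mem_insert.1 hx' with rfl | hx'
    · rw [mul_assoc, hx, hc, zero_smul, mul_zero]
    · rw [mul_right_comm, hes x hx', zero_mul]

open Groth.Agent.Ega43.ResSys

/-- Every stage of the system with limit `κ(p)` maps to `B_e` for some idempotent `e ∉ p`. -/
theorem exists_idem_stage (h : EtPBC.IsIndEtale K B) (p : Ideal B) [p.IsPrime] (j : Idx p) :
    ∃ (e : B) (_ : IsIdempotentElem e) (_ : e ∉ p) (φ : Stage j →+* Localization.Away e),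
      φ.comp (algebraMap B (Stage j)) = algebraMap B (Localization.Away e) := by
  classical
  obtain ⟨e, he, hep, hes⟩ := exists_idem_finset h p (j.snd.image Subtype.val) (by
    intro x hx
    obtain ⟨y, -, rfl⟩ := Finset.mem_image.1 hx
    exact y.2)
  obtain ⟨c, e', he', hep', hx⟩ := exists_idem h p (den j)
  have hc : c ≠ 0 := by
    rintro rfl
    rw [zero_smul] at hx
    have h1 : e' * den j ∈ p := hx ▸ p.zero_mem
    exact (‹p.IsPrime›.mem_or_mem h1).elim hep' (den_notMem j)
  let f := e * e'
  have hf1 : IsUnit (algebraMap B (Localization.Away f) f) :=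
    IsLocalization.Away.algebraMap_isUnit f
  have hfi : IsIdempotentElem f := he.mul he'
  have hf2 : algebraMap B (Localization.Away f) f = 1 := by
    refine (IsIdempotentElem.iff_eq_one_of_isUnit hf1).1 ?_
    exact hfi.map _
  refine ⟨f, hfi, fun hm => (‹p.IsPrime›.mem_or_mem hm).elim hep hep',
    desc j (algebraMap B _) ?_ ?_, desc_comp _ _ _ _⟩
  · intro a ha
    have h3 : f * a = 0 := by
      refine Submodule.span_induction (p := fun a _ => f * a = 0) ?_ (mul_zero _) ?_ ?_ ha
      · rintro _ ⟨x, hx, rfl⟩
        change e * e' * (x : B) = 0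
        rw [mul_right_comm, hes x (Finset.mem_image_of_mem _ hx), zero_mul]
      · intro x y _ _ hx hy
        rw [mul_add, hx, hy, add_zero]
      · intro r x _ hx
        rw [smul_eq_mul, mul_left_comm, hx, mul_zero]
    have h4 : algebraMap B (Localization.Away f) a =
        algebraMap B (Localization.Away f) f * algebraMap B (Localization.Away f) a := by
      rw [hf2, one_mul]
    rw [h4, ← map_mul, h3, map_zero]
  · have h3 : f * den j = c • f := by
      change e * e' * den j = c • (e * e')
      rw [mul_assoc, hx, mul_smul_comm]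
    have h4 : algebraMap B (Localization.Away f) (den j) = algebraMap B _ (algebraMap K B c) := by
      have h5 := congrArg (algebraMap B (Localization.Away f)) h3
      rw [map_mul, hf2, one_mul, Algebra.smul_def, map_mul, hf2, mul_one] at h5
      exact h5
    rw [h4]
    exact ((isUnit_iff_ne_zero.2 hc).map (algebraMap K B)).map _

end Groth.Agent.EtBC.K1.SepProfin
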