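import Groth.Agent.EtBC.K1.SurjAtLim
import Groth.Agent.EtBC.K1.SepProfin
import Groth.Agent.Ega43.ResSysSch

/-!
# Points of the spectrum of an ind-étale algebra over a separably closed field

`B` ind-étale over the separably closed field `K`, `y : Y ⟶ Spec B` qcqs, `F` a sheaf on `X`, `z : Spec B ⟶ X`.
-/

set_option autoImplicit false
universe u
open CategoryTheory CategoryTheory.Limits AlgebraicGeometry Opposite Abelian
open scoped Groth.Agent.Etcore.EtInst
open Groth.Agent.Etcore.EtInst Groth.Agent.Etcore.HpullCalc Groth.Agent.Etcore.PullCoh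
  Groth.Agent.Etcore.HpVia Groth.Agent.Etcore.HQ Groth.Agent.Etcore.LimBC1
open Groth.Agent.EtBC.K1.SurjAt Groth.Agent.EtBC.K1.SurjAtLim Groth.Agent.EtBC.K1.SepProfin

namespace Groth.Agent.EtBC.K1.ProfinPt

attribute [local instance] pfl

open Groth.Agent.Ega43 Groth.Agent.Ega43.ResSys Groth.Agent.Ega43.ResSysSch Groth.Agent.Etcore.PullbackLim

section Loc

variable {B : Type u} [CommRing B]

/-- `Spec B_e ⟶ Spec B`. -/
noncomputable abbrev loc (e : B) : Spec (.of (Localization.Away e)) ⟶ Spec (.of B) :=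
  Spec.map (CommRingCat.ofHom (algebraMap B (Localization.Away e)))

theorem mem_range_loc {e : B} (x : PrimeSpectrum B) :
    (x : Spec (CommRingCat.of B)) ∈ Set.range (loc e) ↔ e ∉ x.asIdeal := by
  have h := PrimeSpectrum.localization_away_comap_range (Localization.Away e) e
  exact Set.ext_iff.1 h x

theorem disjoint_range {e : B} (he : IsIdempotentElem e) :
    Disjoint (Set.range (loc e)) (Set.range (loc (1 - e))) := by
  rw [Set.disjoint_iff]
  rintro (x : PrimeSpectrum B) ⟨h1, h2⟩
  replace h1 := (mem_range_loc x).1 h1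
  replace h2 := (mem_range_loc x).1 h2
  have h3 : e * (1 - e) = 0 := by rw [mul_sub, mul_one, he.eq, sub_self]
  have h4 : e * (1 - e) ∈ x.asIdeal := h3 ▸ x.asIdeal.zero_mem
  exact (x.2.mem_or_mem h4).elim h1 h2

theorem range_union (e : B) :
    Set.range (loc e) ∪ Set.range (loc (1 - e)) = Set.univ := by
  rw [Set.eq_univ_iff_forall]
  intro (x : PrimeSpectrum B)
  by_contra hx
  have h1 : e ∈ x.asIdeal := by
    by_contra h; exact hx (Or.inl ((mem_range_loc x).2 h))
  have h2 : 1 - e ∈ x.asIdeal := by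
    by_contra h; exact hx (Or.inr ((mem_range_loc x).2 h))
  exact x.2.ne_top ((Ideal.eq_top_iff_one _).2 (by simpa using x.asIdeal.add_mem h1 h2))

/-- Induction: a property of idempotents which passes to smaller idempotents and to disjoint unions and holds
near every prime holds for `1`. -/
theorem idem_induction (P : B → Prop)
    (hmono : ∀ e f : B, IsIdempotentElem e → IsIdempotentElem f → e * f = e → P f → P e)
    (hunion : ∀ e f : B, IsIdempotentElem e → IsIdempotentElem f → e * f = 0 → P e → P f → P (e + f))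
    (hloc : ∀ p : PrimeSpectrum B, ∃ e : B, IsIdempotentElem e ∧ e ∉ p.asIdeal ∧ P e) (h0 : P 0) :
    P 1 := by
  let I : Ideal B :=
    { carrier := {x | ∃ e, IsIdempotentElem e ∧ P e ∧ e * x = x}
      zero_mem' := ⟨0, IsIdempotentElem.zero, h0, zero_mul _⟩
      add_mem' := by
        rintro x y ⟨e, he, hP, hx⟩ ⟨f, hf, hQ, hy⟩
        have hee : e * e = e := he
        have hff : f * f = f := hf
        have hf' : IsIdempotentElem (f * (1 - e)) := hf.mul he.one_sub
        have hef : e * (f * (1 - e)) = 0 := by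
          linear_combination (-f) * hee
        refine ⟨e + f * (1 - e), ?_, hunion _ _ he hf' hef hP
          (hmono _ _ hf' hf (by linear_combination (1 - e) * hff) hQ), ?_⟩
        · change (e + f * (1 - e)) * (e + f * (1 - e)) = e + f * (1 - e)
          have := hf'.eq
          linear_combination hee + 2 * hef + this
        · linear_combination (1 - f) * hx + (1 - e) * hy
      smul_mem' := by
        rintro c x ⟨e, he, hP, hx⟩
        exact ⟨e, he, hP, by rw [smul_eq_mul, mul_left_comm, hx]⟩ }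
  have hI : I = ⊤ := by
    by_contra hI
    obtain ⟨m, hm, hIm⟩ := Ideal.exists_le_maximal I hI
    obtain ⟨e, he, hem, hP⟩ := hloc ⟨m, hm.isPrime⟩
    exact hem (hIm ⟨e, he, hP, he⟩)
  obtain ⟨e, he, hP, h1⟩ := (Ideal.eq_top_iff_one I).1 hI
  rw [mul_one] at h1
  exact h1 ▸ hP

/-- `Spec B_e ⟶ Spec B_f` for `e` a multiple of `f`. -/
theorem exists_loc_loc {e f : B} (h : e * f = e) :
    ∃ k : Spec (.of (Localization.Away e)) ⟶ Spec (.of (Localization.Away f)), k ≫ loc f = loc e := by
  have hu : IsUnit (algebraMap B (Localization.Away e) f) := by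
    have h1 : IsUnit (algebraMap B (Localization.Away e) e) :=
      IsLocalization.Away.algebraMap_isUnit e
    have h2 : algebraMap B (Localization.Away e) e * algebraMap B (Localization.Away e) f =
        algebraMap B (Localization.Away e) e := by rw [← map_mul, h]
    rw [← h2] at h1
    exact (IsUnit.mul_iff.1 h1).2
  refine ⟨Spec.map (CommRingCat.ofHom (IsLocalization.Away.lift (S := Localization.Away f) f hu)), ?_⟩
  rw [← Spec.map_comp, ← CommRingCat.ofHom_comp, IsLocalization.Away.lift_comp]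

theorem exists_one_loc : ∃ k : Spec (.of B) ⟶ Spec (.of (Localization.Away (1 : B))),
    k ≫ loc (1 : B) = 𝟙 _ := by
  refine ⟨Spec.map (CommRingCat.ofHom (IsLocalization.Away.lift (S := Localization.Away (1 : B)) 1
    (g := RingHom.id B) (by rw [map_one]; exact isUnit_one))), ?_⟩
  rw [← Spec.map_comp, ← CommRingCat.ofHom_comp, IsLocalization.Away.lift_comp]
  exact Spec.map_id _

/-- A property of morphisms to `Spec B` which passes to compositions and disjoint unions and holds on a clopen
neighbourhood of each point holds for the identity. -/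
theorem all_of_loc (Q : ∀ {T : Scheme.{u}}, (T ⟶ Spec (.of B)) → Prop)
    (comp : ∀ {T T' : Scheme.{u}} (k : T' ⟶ T) (τ : T ⟶ Spec (.of B)), Q τ → Q (k ≫ τ))
    (disj : ∀ {T U V : Scheme.{u}} (j : U ⟶ T) (k : V ⟶ T) [IsOpenImmersion j] [IsOpenImmersion k],
      Disjoint (Set.range j) (Set.range k) → Set.range j ∪ Set.range k = Set.univ →
      ∀ (τ : T ⟶ Spec (.of B)), Q (j ≫ τ) → Q (k ≫ τ) → Q τ)
    (emp : ∀ {T : Scheme.{u}} (τ : T ⟶ Spec (.of B)), IsEmpty T → Q τ)
    (hloc : ∀ p : PrimeSpectrum B, ∃ e : B, IsIdempotentElem e ∧ e ∉ p.asIdeal ∧ Q (loc e)) :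
    Q (𝟙 (Spec (.of B))) := by
  obtain ⟨k, hk⟩ := exists_one_loc (B := B)
  rw [← hk]
  refine comp _ _ (idem_induction (fun e => Q (loc e)) ?_ ?_ hloc ?_)
  · intro e f _ _ hef hf
    obtain ⟨k, hk⟩ := exists_loc_loc hef
    rw [← hk]
    exact comp _ _ hf
  · intro e f he hf hef h1 h2
    obtain ⟨j, hj⟩ := exists_loc_loc (e := e) (f := e + f) (by rw [mul_add, he.eq, hef, add_zero])
    obtain ⟨k, hk⟩ := exists_loc_loc (e := f) (f := e + f)
      (by rw [mul_add, hf.eq, mul_comm, hef, zero_add])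
    have : IsOpenImmersion (loc e) := inferInstance
    have : IsOpenImmersion (j ≫ loc (e + f)) := by rw [hj]; infer_instance
    have : IsOpenImmersion j := IsOpenImmersion.of_comp j (loc (e + f))
    have : IsOpenImmersion (k ≫ loc (e + f)) := by rw [hk]; infer_instance
    have : IsOpenImmersion k := IsOpenImmersion.of_comp k (loc (e + f))
    have hinj : Function.Injective (loc (e + f)) := (loc (e + f)).isOpenEmbedding.injective
    have hr : ∀ {g : B} {l : Spec (.of (Localization.Away g)) ⟶ Spec (.of (Localization.Away (e + f)))},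
        l ≫ loc (e + f) = loc g → Set.range l = loc (e + f) ⁻¹' Set.range (loc g) := by
      intro g l hl
      rw [← hl, Scheme.Hom.comp_base, TopCat.coe_comp, Set.range_comp,
        Set.preimage_image_eq _ hinj]
    refine disj j k ?_ ?_ (loc (e + f)) (by rw [hj]; exact h1) (by rw [hk]; exact h2)
    · rw [hr hj, hr hk]
      refine Disjoint.preimage _ ?_
      rw [Set.disjoint_iff]
      rintro (x : PrimeSpectrum B) ⟨h1, h2⟩
      replace h1 := (mem_range_loc x).1 h1
      replace h2 := (mem_range_loc x).1 h2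
      exact (x.2.mem_or_mem (hef ▸ x.asIdeal.zero_mem)).elim h1 h2
    · rw [hr hj, hr hk, ← Set.preimage_union, Set.eq_univ_iff_forall]
      intro x
      let x' : PrimeSpectrum B := loc (e + f) x
      have hx : e + f ∉ x'.asIdeal := (mem_range_loc x').1 ⟨x, rfl⟩
      by_cases he : e ∈ x'.asIdeal
      · refine Or.inr ((mem_range_loc x').2 fun hf => hx (x'.asIdeal.add_mem he hf))
      · exact Or.inl ((mem_range_loc x').2 he)
  · refine emp _ ⟨fun x => ?_⟩
    exact (mem_range_loc (e := (0 : B)) _).1 ⟨x, rfl⟩ (Ideal.zero_mem _)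

end Loc

section Main

variable {K : Type u} [Field K] [IsSepClosed K] {B : Type u} [CommRing B] [Algebra K B]

/-- `Spec κ(p) ⟶ Spec B`. -/
noncomputable abbrev ptMap (p : PrimeSpectrum B) :
    Spec (.of p.asIdeal.ResidueField) ⟶ Spec (.of B) :=
  Spec.map (CommRingCat.ofHom (algebraMap B p.asIdeal.ResidueField))

theorem exists_loc_stage (h : EtPBC.IsIndEtale K B) (p : PrimeSpectrum B) (j : Idx p.asIdeal) :
    ∃ (e : B) (_ : IsIdempotentElem e) (_ : e ∉ p.asIdeal)
      (k : Spec (.of (Localization.Away e)) ⟶ (ResSysSch.diag p.asIdeal).obj (op j)),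
      k ≫ toBase p.asIdeal (op j) = loc e := by
  obtain ⟨e, he, hep, φ, hφ⟩ := exists_idem_stage h p.asIdeal j
  refine ⟨e, he, hep, Spec.map (CommRingCat.ofHom φ), ?_⟩
  refine (Spec.map_comp _ _).symm.trans (congrArg Spec.map ?_)
  exact (CommRingCat.ofHom_comp _ _).symm.trans (congrArg CommRingCat.ofHom hφ)

variable {X Y : Scheme.{u}} {F : EtCoh.Ab X} {z : Spec (.of B) ⟶ X} {y : Y ⟶ Spec (.of B)} {n : ℕ}

theorem surjAt_loc (h : EtPBC.IsIndEtale K B) [QuasiCompact y] [QuasiSeparated y]
    {ξ : HQ F (y ≫ z) n} (p : PrimeSpectrum B) (hp : SurjAt F z y n ξ (ptMap p)) :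
    ∃ e : B, IsIdempotentElem e ∧ e ∉ p.asIdeal ∧ SurjAt F z y n ξ (loc e) := by
  obtain ⟨j, -, hj⟩ := of_lim (ResSysSch.diag p.asIdeal) (fun _ _ _ => inferInstance)
    (fun _ => inferInstance) (fun _ => inferInstance) (cone p.asIdeal p.asIdeal.ResidueField)
    (isLimit p.asIdeal p.asIdeal.ResidueField) (toBase p.asIdeal)
    (fun _ _ f => map_toBase p.asIdeal f) (ptMap p)
    (fun i => cone_toBase p.asIdeal p.asIdeal.ResidueField i) hp (Classical.arbitrary _)
  obtain ⟨e, he, hep, k, hk⟩ := exists_loc_stage h p j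
  exact ⟨e, he, hep, hj.comp k hk⟩

theorem surjAt_id (h : EtPBC.IsIndEtale K B) [QuasiCompact y] [QuasiSeparated y]
    {ξ : HQ F (y ≫ z) n} (H : ∀ p : PrimeSpectrum B, SurjAt F z y n ξ (ptMap p)) :
    SurjAt F z y n ξ (𝟙 _) := by
  refine all_of_loc (fun τ => SurjAt F z y n ξ τ) (fun k τ hτ => hτ.comp k rfl)
    (fun j k _ _ hd hc τ hj hk => SurjAt.of_disj j k hd hc hj hk) (fun {T} τ hT => ⟨0, ?_⟩)
    (fun p => surjAt_loc h p (H p))
  have : IsEmpty ↥(pullback y τ) := ⟨fun x => hT.false (pullback.snd y τ x)⟩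
  exact (HQDisj.subsingleton_HH _ n).elim _ _

/-- A class which dies on the fibre over `p` dies on the preimage of a clopen neighbourhood of `p`. -/
theorem exists_zero_loc (h : EtPBC.IsIndEtale K B) [QuasiCompact y] [QuasiSeparated y] {v : Y ⟶ X}
    (ζ : HQ F v n) (p : PrimeSpectrum B)
    (hp : res F (q' := pullback.fst y (ptMap p) ≫ v) (pullback.fst y (ptMap p)) rfl n ζ = 0) :
    ∃ e : B, IsIdempotentElem e ∧ e ∉ p.asIdeal ∧
      res F (q' := pullback.fst y (loc e) ≫ v) (pullback.fst y (loc e)) rfl n ζ = 0 := by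
  let i₀ : Idx p.asIdeal := Classical.arbitrary _
  have e1 : proj (ResSysSch.diag p.asIdeal) (toBase p.asIdeal) y (cone p.asIdeal p.asIdeal.ResidueField)
      (ptMap p) (fun i => cone_toBase p.asIdeal p.asIdeal.ResidueField i) (op i₀) ≫
        pullback.fst y (toBase p.asIdeal (op i₀)) ≫ v = pullback.fst y (ptMap p) ≫ v := by
    rw [← Category.assoc, proj_fst]
    rfl
  obtain ⟨j, hj, hj0⟩ := exists_zero_pullback F y v n (ResSysSch.diag p.asIdeal) (fun _ _ _ => inferInstance)
    (fun _ => inferInstance) (fun _ => inferInstance) (cone p.asIdeal p.asIdeal.ResidueField)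
    (isLimit p.asIdeal p.asIdeal.ResidueField) (toBase p.asIdeal)
    (fun _ _ f => map_toBase p.asIdeal f) (ptMap p)
    (fun i => cone_toBase p.asIdeal p.asIdeal.ResidueField i) i₀
    (res F (q' := pullback.fst y (toBase p.asIdeal (op i₀)) ≫ v)
      (pullback.fst y (toBase p.asIdeal (op i₀))) rfl n ζ)
    ((res_res F (pullback.fst y (toBase p.asIdeal (op i₀))) rfl _ e1 _
      (proj_fst _ _ _ _ _ _ _) rfl n ζ).trans hp)
  obtain ⟨e, he, hep, k, hk⟩ := exists_loc_stage h p j
  refine ⟨e, he, hep, ?_⟩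
  have e2 : mapp (ResSysSch.diag p.asIdeal) (toBase p.asIdeal) (fun _ _ f => map_toBase p.asIdeal f) y
      (homOfLE hj).op ≫ pullback.fst y (toBase p.asIdeal (op i₀)) ≫ v =
        pullback.fst y (toBase p.asIdeal (op j)) ≫ v := by
    rw [← Category.assoc, mapp_fst]
  rw [res_res F (pullback.fst y (toBase p.asIdeal (op i₀))) rfl _ e2 _
      (mapp_fst _ _ _ _ _) rfl n ζ] at hj0
  let m : pullback y (loc e) ⟶ pullback y (toBase p.asIdeal (op j)) :=
    pullback.lift (pullback.fst y (loc e)) (pullback.snd y (loc e) ≫ k)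
      (by rw [Category.assoc, hk, pullback.condition])
  have hm : m ≫ pullback.fst y (toBase p.asIdeal (op j)) = pullback.fst y (loc e) :=
    pullback.lift_fst _ _ _
  have hm' : m ≫ pullback.fst y (toBase p.asIdeal (op j)) ≫ v = pullback.fst y (loc e) ≫ v := by
    rw [← Category.assoc, hm]
  rw [← res_res F (pullback.fst y (toBase p.asIdeal (op j))) rfl m hm' _ hm rfl n ζ, hj0, map_zero]

/-- `Spec κ(p) ⟶ Spec B` factors through `Spec B_e` if `e ∉ p`. -/
theorem exists_pt_loc (p : PrimeSpectrum B) {e : B} (he : e ∉ p.asIdeal) :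
    ∃ k : Spec (.of p.asIdeal.ResidueField) ⟶ Spec (.of (Localization.Away e)),
      k ≫ loc e = ptMap p := by
  have hu : IsUnit (algebraMap B p.asIdeal.ResidueField e) := by
    rw [isUnit_iff_ne_zero, Ne, Ideal.algebraMap_residueField_eq_zero]
    exact he
  refine ⟨Spec.map (CommRingCat.ofHom (IsLocalization.Away.lift (S := Localization.Away e) e hu)), ?_⟩
  rw [← Spec.map_comp, ← CommRingCat.ofHom_comp, IsLocalization.Away.lift_comp]

theorem mono_toBase (p : Ideal B) [p.IsPrime] (j : Idx p) : Mono (toBase p (op j)) := by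
  have : Epi (CommRingCat.ofHom (algebraMap B (Stage j))) := by
    refine ⟨fun {C} f g hfg => ?_⟩
    ext1
    exact ringHom_ext j (congrArg CommRingCat.Hom.hom hfg)
  exact inferInstanceAs (Mono (Scheme.Spec.map (CommRingCat.ofHom (algebraMap B (Stage j))).op))

/-- A class which dies at all the points is zero. -/
theorem eq_zero_of_pts (h : EtPBC.IsIndEtale K B) (ζ : HQ F z n)
    (H : ∀ p : PrimeSpectrum B, res F (q' := ptMap p ≫ z) (ptMap p) rfl n ζ = 0) : ζ = 0 := by
  have key : res F (q' := 𝟙 _ ≫ z) (𝟙 (Spec (.of B))) rfl n ζ = 0 := by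
    refine all_of_loc (fun τ => res F (q' := τ ≫ z) τ rfl n ζ = 0) ?_ ?_ ?_ ?_
    · intro T T' k τ hτ
      rw [← res_res F τ rfl k (q'' := (k ≫ τ) ≫ z) (Category.assoc _ _ _).symm _ rfl rfl n ζ, hτ,
        map_zero]
    · intro T U V j k _ _ hd hc τ h1 h2
      refine HQDisj.eq_zero_of_disj j k hd hc F (Category.assoc _ _ _).symm
        (Category.assoc _ _ _).symm n _ ?_ ?_
      · rw [res_res F τ rfl j (Category.assoc _ _ _).symm _ rfl rfl n ζ, h1]
      · rw [res_res F τ rfl k (Category.assoc _ _ _).symm _ rfl rfl n ζ, h2]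
    · intro T τ hT
      exact (HQDisj.subsingleton_HH _ n).elim _ _
    · intro p
      have e1 : pullback.fst (𝟙 (Spec (.of B))) (ptMap p) =
          pullback.snd (𝟙 (Spec (.of B))) (ptMap p) ≫ ptMap p := by
        rw [← pullback.condition, Category.comp_id]
      have h0 : res F (q' := pullback.fst (𝟙 (Spec (.of B))) (ptMap p) ≫ z)
          (pullback.fst (𝟙 (Spec (.of B))) (ptMap p)) rfl n ζ = 0 := by
        rw [← res_res F (ptMap p) rfl (pullback.snd (𝟙 (Spec (.of B))) (ptMap p))
          (by rw [e1, Category.assoc]) _ e1.symm rfl n ζ, H p, map_zero]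
      obtain ⟨e, he, hep, h1⟩ := exists_zero_loc h ζ p h0
      refine ⟨e, he, hep, ?_⟩
      let m : Spec (.of (Localization.Away e)) ⟶ pullback (𝟙 (Spec (.of B))) (loc e) :=
        pullback.lift (loc e) (𝟙 _) (by rw [Category.comp_id, Category.id_comp])
      have hm : m ≫ pullback.fst (𝟙 (Spec (.of B))) (loc e) = loc e := pullback.lift_fst _ _ _
      rw [← res_res F (pullback.fst (𝟙 (Spec (.of B))) (loc e)) rfl m
        (by rw [← Category.assoc, hm]) _ hm rfl n ζ, h1, map_zero]
  exact (res_eq_zero_iff F (𝟙 _) rfl n ζ).1 key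

/-- Classes on the fibre over `p` extend to `Y`. -/
theorem exists_extension (h : EtPBC.IsIndEtale K B) [QuasiCompact y] [QuasiSeparated y] {v : Y ⟶ X}
    (p : PrimeSpectrum B) (θ : HQ F (pullback.fst y (ptMap p) ≫ v) n) :
    ∃ ζ : HQ F v n, res F (q' := pullback.fst y (ptMap p) ≫ v) (pullback.fst y (ptMap p)) rfl n ζ =
      θ := by
  obtain ⟨j, -, θj, hθj⟩ := exists_pullback F y v n (ResSysSch.diag p.asIdeal)
    (fun _ _ _ => inferInstance)
    (fun _ => inferInstance) (fun _ => inferInstance) (cone p.asIdeal p.asIdeal.ResidueField)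
    (isLimit p.asIdeal p.asIdeal.ResidueField) (toBase p.asIdeal)
    (fun _ _ f => map_toBase p.asIdeal f) (ptMap p)
    (fun i => cone_toBase p.asIdeal p.asIdeal.ResidueField i) (Classical.arbitrary _) θ
  obtain ⟨e, he, hep, k, hk⟩ := exists_loc_stage h p j
  obtain ⟨k', hk'⟩ := exists_pt_loc p hep
  have hmono := mono_toBase p.asIdeal j
  have hkk : (cone p.asIdeal p.asIdeal.ResidueField).π.app (op j) = k' ≫ k := by
    refine (cancel_mono (toBase p.asIdeal (op j))).1 ?_
    refine (cone_toBase p.asIdeal p.asIdeal.ResidueField (op j)).trans ?_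
    refine hk'.symm.trans ((congrArg (k' ≫ ·) hk.symm).trans ?_)
    exact (Category.assoc _ _ _).symm
  let m : pullback y (loc e) ⟶ pullback y (toBase p.asIdeal (op j)) :=
    pullback.lift (pullback.fst y (loc e)) (pullback.snd y (loc e) ≫ k)
      (by rw [Category.assoc, hk, pullback.condition])
  have hm1 : m ≫ pullback.fst y (toBase p.asIdeal (op j)) = pullback.fst y (loc e) :=
    pullback.lift_fst _ _ _
  have hm2 : m ≫ pullback.snd y (toBase p.asIdeal (op j)) = pullback.snd y (loc e) ≫ k :=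
    pullback.lift_snd _ _ _
  have hm : m ≫ pullback.fst y (toBase p.asIdeal (op j)) ≫ v = pullback.fst y (loc e) ≫ v := by
    rw [← Category.assoc, hm1]
  let m' : pullback y (ptMap p) ⟶ pullback y (loc e) :=
    pullback.lift (pullback.fst y (ptMap p)) (pullback.snd y (ptMap p) ≫ k')
      (by rw [Category.assoc, hk', pullback.condition])
  have hm1' : m' ≫ pullback.fst y (loc e) = pullback.fst y (ptMap p) := pullback.lift_fst _ _ _
  have hm2' : m' ≫ pullback.snd y (loc e) = pullback.snd y (ptMap p) ≫ k' := pullback.lift_snd _ _ _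
  have hm' : m' ≫ pullback.fst y (loc e) ≫ v = pullback.fst y (ptMap p) ≫ v := by
    rw [← Category.assoc, hm1']
  have hmm : m' ≫ m = proj (ResSysSch.diag p.asIdeal) (toBase p.asIdeal) y
      (cone p.asIdeal p.asIdeal.ResidueField) (ptMap p)
      (fun i => cone_toBase p.asIdeal p.asIdeal.ResidueField i) (op j) := by
    apply pullback.hom_ext
    · rw [Category.assoc, hm1, hm1']
      exact (proj_fst (ResSysSch.diag p.asIdeal) (toBase p.asIdeal) y
        (cone p.asIdeal p.asIdeal.ResidueField) (ptMap p)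
        (fun i => cone_toBase p.asIdeal p.asIdeal.ResidueField i) (op j)).symm
    · rw [Category.assoc, hm2, ← Category.assoc, hm2', Category.assoc, ← hkk]
      exact (proj_snd (ResSysSch.diag p.asIdeal) (toBase p.asIdeal) y
        (cone p.asIdeal p.asIdeal.ResidueField) (ptMap p)
        (fun i => cone_toBase p.asIdeal p.asIdeal.ResidueField i) (op j)).symm
  let a : pullback y (loc e) ⟶ Y := pullback.fst y (loc e)
  let b : pullback y (loc (1 - e)) ⟶ Y := pullback.fst y (loc (1 - e))
  have ha : Set.range a = y ⁻¹' Set.range (loc e) := Scheme.Pullback.range_fst _ _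
  have hb : Set.range b = y ⁻¹' Set.range (loc (1 - e)) := Scheme.Pullback.range_fst _ _
  obtain ⟨ζ, hζ, -⟩ := HQDisj.exists_of_disj a b (by rw [ha, hb]; exact (disjoint_range he).preimage _)
    (by rw [ha, hb, ← Set.preimage_union, range_union, Set.preimage_univ]) F (q := v) rfl rfl n
    (res F m hm n θj) 0
  refine ⟨ζ, ?_⟩
  rw [← res_res F a rfl m' hm' _ hm1' rfl n ζ, hζ]
  have e1 : (m' ≫ m) ≫ pullback.fst y (toBase p.asIdeal (op j)) ≫ v =
      pullback.fst y (ptMap p) ≫ v := by
    rw [Category.assoc, hm, hm']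
  rw [res_res F m hm m' hm' _ rfl e1 n θj]
  exact (res_congr F hmm _ _ n θj).trans hθj

end Main

end Groth.Agent.EtBC.K1.ProfinPt
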