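import Groth.Agent.EtBC.K1.SurjAt
import Groth.Agent.Etcore.LimH

/-!
# Classes which come from `T` after base change to `T`: limits

* `SurjAt.of_lim`: if `T = lim T_a` (affine transition maps, `y` qcqs) then `SurjAt` holds for some `T_a` if it
  holds for `T`.
-/

set_option autoImplicit false
universe u
open CategoryTheory CategoryTheory.Limits AlgebraicGeometry Opposite Abelian
open scoped Groth.Agent.Etcore.EtInst
open Groth.Agent.Etcore.EtInst Groth.Agent.Etcore.HpullCalc Groth.Agent.Etcore.PullCoh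
  Groth.Agent.Etcore.HpVia Groth.Agent.Etcore.HQ Groth.Agent.Etcore.LimBC1
open Groth.Agent.EtBC.K1.SurjAt

namespace Groth.Agent.EtBC.K1.SurjAtLim

attribute [local instance] pfl

open Groth.Agent.Etcore.LimH Groth.Agent.Etcore.LimHBase Groth.Agent.Etcore.PullbackLim

section HQlim

variable {X : Scheme.{u}} (F : EtCoh.Ab X) (n : ℕ)
  {ι : Type u} [Preorder ι] [IsDirected ι (· ≤ ·)] (D : ιᵒᵖ ⥤ Scheme.{u})
    (haff : ∀ ⦃a b : ιᵒᵖ⦄ (h : a ⟶ b), IsAffineHom (D.map h))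
    (hqc : ∀ a, CompactSpace ↥(D.obj a)) (hqs : ∀ a, QuasiSeparatedSpace ↥(D.obj a))
    (X₀ : Scheme.{u}) (π : ∀ a, X₀ ⟶ D.obj a)
    (w : ∀ ⦃a b : ιᵒᵖ⦄ (h : a ⟶ b), π a ≫ D.map h = π b)
    (hc : IsLimit (mkCone D X₀ π w)) (r : ∀ a : ιᵒᵖ, D.obj a ⟶ X)
    (hr : ∀ ⦃a b : ιᵒᵖ⦄ (h : a ⟶ b), D.map h ≫ r b = r a) (r₀ : X₀ ⟶ X)
    (hr₀ : ∀ a, π a ≫ r a = r₀)

include haff hqc hqs hc hr hr₀

/-- Classes on the limit come from a stage, in terms of `res`. -/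
theorem exists_stage (i₀ : ι) (ξ : HQ F r₀ n) :
    ∃ (j : ι) (_ : i₀ ≤ j) (ξj : HQ F (r (op j)) n), res F (π (op j)) (hr₀ _) n ξj = ξ := by
  obtain ⟨j, hj, ξj, h⟩ := exists_of_limit D haff hqc hqs X₀ π w hc r hr r₀ hr₀ F n i₀ ξ
  exact ⟨j, hj, ξj, (res_eq_hpVia F _ _ n ξj).trans h⟩

/-- A class at a stage which dies on the limit dies at a later stage, in terms of `res`. -/
theorem exists_zero_stage (j : ι) (ξj : HQ F (r (op j)) n)
    (h : res F (π (op j)) (hr₀ _) n ξj = 0) :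
    ∃ (k : ι) (hk : j ≤ k), res F (D.map (homOfLE hk).op) (hr _) n ξj = 0 := by
  obtain ⟨k, hk, e⟩ := exists_zero_of_limit D haff hqc hqs X₀ π w hc r hr r₀ hr₀ F n j ξj
    ((res_eq_hpVia F _ _ n ξj).symm.trans h)
  exact ⟨k, hk, (res_eq_hpVia F _ _ n ξj).trans e⟩

end HQlim

section Pbk

variable {X Y Z : Scheme.{u}} (F : EtCoh.Ab X) (y : Y ⟶ Z) (v : Y ⟶ X) (n : ℕ)
  [QuasiCompact y] [QuasiSeparated y]
  {ι : Type u} [Preorder ι] [IsDirected ι (· ≤ ·)] [Nonempty ι] (D : ιᵒᵖ ⥤ Scheme.{u})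
    (haff : ∀ ⦃a b : ιᵒᵖ⦄ (h : a ⟶ b), IsAffineHom (D.map h))
    (hqc : ∀ a, CompactSpace ↥(D.obj a)) (hqs : ∀ a, QuasiSeparatedSpace ↥(D.obj a))
    (c : Cone D) (hc : IsLimit c) (r : ∀ a : ιᵒᵖ, D.obj a ⟶ Z)
    (hr : ∀ ⦃a b : ιᵒᵖ⦄ (h : a ⟶ b), D.map h ≫ r b = r a) (r₀ : c.pt ⟶ Z)
    (hr₀ : ∀ a, c.π.app a ≫ r a = r₀)

include haff hqc hqs hc hr hr₀

/-- A class on `Y ×_Z T_j` which dies on `Y ×_Z T` dies on some `Y ×_Z T_k`. -/
theorem exists_zero_pullback (j : ι) (d : HQ F (pullback.fst y (r (op j)) ≫ v) n)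
    (h : res F (q' := pullback.fst y r₀ ≫ v) (proj D r y c r₀ hr₀ (op j))
      (by rw [← Category.assoc, proj_fst]) n d = 0) :
    ∃ (k : ι) (hk : j ≤ k), res F (q' := pullback.fst y (r (op k)) ≫ v)
      (mapp D r hr y (homOfLE hk).op) (by rw [← Category.assoc, mapp_fst]) n d = 0 :=
  exists_zero_stage F n (sys D r hr y) (fun _ _ h => isAffineHom_mapp D r hr y haff h)
    (fun a => compactSpace_obj D r hr y a) (fun a => quasiSeparatedSpace_obj D r hr y a)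
    (pullback y r₀) (fun a => proj D r y c r₀ hr₀ a) (fun _ _ h => proj_mapp D r hr y c r₀ hr₀ h)
    (isLimitCone D r hr y c r₀ hr₀ hc) (fun a => pullback.fst y (r a) ≫ v)
    (fun _ _ h => (Category.assoc _ _ _).symm.trans (congrArg (· ≫ v) (mapp_fst D r hr y h)))
    (pullback.fst y r₀ ≫ v)
    (fun a => (Category.assoc _ _ _).symm.trans (congrArg (· ≫ v) (proj_fst D r y c r₀ hr₀ a)))
    j d h

/-- A class on `Y ×_Z T` comes from some `Y ×_Z T_j`. -/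
theorem exists_pullback (i₀ : ι) (θ : HQ F (pullback.fst y r₀ ≫ v) n) :
    ∃ (j : ι) (_ : i₀ ≤ j) (θj : HQ F (pullback.fst y (r (op j)) ≫ v) n),
      res F (proj D r y c r₀ hr₀ (op j)) (by rw [← Category.assoc, proj_fst]) n θj = θ :=
  exists_stage F n (sys D r hr y) (fun _ _ h => isAffineHom_mapp D r hr y haff h)
    (fun a => compactSpace_obj D r hr y a) (fun a => quasiSeparatedSpace_obj D r hr y a)
    (pullback y r₀) (fun a => proj D r y c r₀ hr₀ a) (fun _ _ h => proj_mapp D r hr y c r₀ hr₀ h)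
    (isLimitCone D r hr y c r₀ hr₀ hc) (fun a => pullback.fst y (r a) ≫ v)
    (fun _ _ h => (Category.assoc _ _ _).symm.trans (congrArg (· ≫ v) (mapp_fst D r hr y h)))
    (pullback.fst y r₀ ≫ v)
    (fun a => (Category.assoc _ _ _).symm.trans (congrArg (· ≫ v) (proj_fst D r y c r₀ hr₀ a)))
    i₀ θ

end Pbk

section Main

variable {X Y Z : Scheme.{u}} {F : EtCoh.Ab X} {z : Z ⟶ X} {y : Y ⟶ Z} {n : ℕ}
  [QuasiCompact y] [QuasiSeparated y]
  {ι : Type u} [Preorder ι] [IsDirected ι (· ≤ ·)] [Nonempty ι] (D : ιᵒᵖ ⥤ Scheme.{u})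
    (haff : ∀ ⦃a b : ιᵒᵖ⦄ (h : a ⟶ b), IsAffineHom (D.map h))
    (hqc : ∀ a, CompactSpace ↥(D.obj a)) (hqs : ∀ a, QuasiSeparatedSpace ↥(D.obj a))
    (c : Cone D) (hc : IsLimit c) (r : ∀ a : ιᵒᵖ, D.obj a ⟶ Z)
    (hr : ∀ ⦃a b : ιᵒᵖ⦄ (h : a ⟶ b), D.map h ≫ r b = r a) (r₀ : c.pt ⟶ Z)
    (hr₀ : ∀ a, c.π.app a ≫ r a = r₀)

include haff hqc hqs hc hr hr₀

/-- Spreading out `SurjAt` from a limit. -/
theorem of_lim {ξ : HQ F (y ≫ z) n} (h : SurjAt F z y n ξ r₀) (i₀ : ι) :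
    ∃ (j : ι) (_ : i₀ ≤ j), SurjAt F z y n ξ (r (op j)) := by
  obtain ⟨η, hη⟩ := h
  have hrz : ∀ ⦃a b : ιᵒᵖ⦄ (h : a ⟶ b), D.map h ≫ r b ≫ z = r a ≫ z :=
    fun a b h => by rw [← Category.assoc, hr]
  have hr0z : ∀ a, c.π.app a ≫ r a ≫ z = r₀ ≫ z := fun a => by rw [← Category.assoc, hr₀]
  obtain ⟨j, hj, ηj, hηj⟩ := exists_stage F n D haff hqc hqs c.pt (fun a => c.π.app a)
    (fun _ _ h => c.w h) hc (fun a => r a ≫ z) hrz (r₀ ≫ z) hr0z i₀ η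
  have cond : ∀ {T : Scheme} (τ : T ⟶ Z),
      pullback.snd y τ ≫ τ ≫ z = pullback.fst y τ ≫ y ≫ z := fun τ => by
    rw [← Category.assoc, ← Category.assoc, pullback.condition]
  have p1 : proj D r y c r₀ hr₀ (op j) ≫ pullback.fst y (r (op j)) ≫ y ≫ z =
      pullback.fst y r₀ ≫ y ≫ z := by
    rw [← Category.assoc, proj_fst]
  have p2 : (pullback.snd y r₀ ≫ c.π.app (op j)) ≫ r (op j) ≫ z = pullback.fst y r₀ ≫ y ≫ z := by
    rw [Category.assoc, hr0z, cond]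
  have hd0 : res F (q' := pullback.fst y r₀ ≫ y ≫ z) (proj D r y c r₀ hr₀ (op j)) p1 n
      (res F (pullback.snd y (r (op j))) (cond _) n ηj -
      res F (q' := pullback.fst y (r (op j)) ≫ y ≫ z) (pullback.fst y (r (op j))) rfl n ξ) = 0 := by
    rw [map_sub, res_res F (pullback.snd y (r (op j))) (cond _)
        (proj D r y c r₀ hr₀ (op j)) p1 (pullback.snd y r₀ ≫ c.π.app (op j))
        (proj_snd D r y c r₀ hr₀ (op j)) p2 n ηj,
      ← res_res F (c.π.app (op j)) (hr0z _) (pullback.snd y r₀) (cond _) _ rfl p2 n ηj, hηj, hη,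
      res_res F (pullback.fst y (r (op j))) rfl
        (proj D r y c r₀ hr₀ (op j)) p1 _ (proj_fst D r y _ r₀ hr₀ (op j))
        rfl n ξ, sub_self]
  obtain ⟨k, hk, h0⟩ := exists_zero_pullback F y (y ≫ z) n D haff hqc hqs c hc r hr r₀
    hr₀ j _ hd0
  have m1 : mapp D r hr y (homOfLE hk).op ≫ pullback.fst y (r (op j)) ≫ y ≫ z =
      pullback.fst y (r (op k)) ≫ y ≫ z := by
    rw [← Category.assoc, mapp_fst]
  have m2 : (pullback.snd y (r (op k)) ≫ D.map (homOfLE hk).op) ≫ r (op j) ≫ z =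
      pullback.fst y (r (op k)) ≫ y ≫ z := by
    rw [Category.assoc, hrz, cond]
  refine ⟨k, hj.trans hk, res F (D.map (homOfLE hk).op) (hrz _) n ηj, ?_⟩
  rw [map_sub, sub_eq_zero, res_res F (pullback.snd y (r (op j))) (cond _)
      (mapp D r hr y (homOfLE hk).op) m1 (pullback.snd y (r (op k)) ≫ D.map (homOfLE hk).op)
      (mapp_snd D r hr y (homOfLE hk).op) m2 n ηj,
    res_res F (pullback.fst y (r (op j))) rfl (mapp D r hr y (homOfLE hk).op) m1 _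
      (mapp_fst D r hr y (homOfLE hk).op) rfl n ξ] at h0
  rw [← h0]
  exact res_res F (D.map (homOfLE hk).op) (hrz _) (pullback.snd y (r (op k))) (cond _) _ rfl m2 n ηj

end Main

end Groth.Agent.EtBC.K1.SurjAtLim
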